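import Cfsg.Agent.Blocks.AbelianFrobenius.Main
import Cfsg.Agent.Blocks.Orth.Schur
import Cfsg.Agent.Blocks.Orth.Subsection
import Cfsg.Agent.Transfer.CyclicSylow

/-!
Column sums of the principal block for a cyclic Sylow subgroup, and the resulting formula for the
number of `a` such that `(a x a⁻¹) w` lies in a given `p`-section.
-/

set_option autoImplicit false
open Cfsg CfsgLib
open CfsgLib.Blocks CfsgLib.Blocks.AbelianFrobenius

namespace CfsgLib.ConjFunctor.CyclicPairs

universe u

variable {G : Type u} [Group G] [Fintype G] {p : ℕ} [Fact p.Prime] {M : Ideal AlgInt}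
  {P : Sylow p G}

theorem frob_of_isCyclic (hP : IsCyclic (P : Subgroup G)) : Frob P := by
  haveI : IsMulCommutative (P : Subgroup G) := IsCyclic.isMulCommutative
  intro y hy hy1
  refine le_antisymm (fun c hc => ?_) (le_inf (Subgroup.centralizer_le (Set.singleton_subset_iff.2 hy))
    (Subgroup.centralizer_le_normalizer _))
  refine Transfer.mem_centralizer_of_cyclic_sylow_fixed P hP hc.2
    (Z := Subgroup.zpowers y) (Subgroup.zpowers_le.2 hy) (by rwa [ne_eq, Subgroup.zpowers_eq_bot]) ?_
  refine Subgroup.mem_centralizer_iff.2 fun z hz => ?_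
  obtain ⟨k, rfl⟩ := Subgroup.mem_zpowers_iff.1 hz
  exact (Commute.zpow_left (show Commute y c from
    ((Subgroup.mem_centralizer_singleton_iff.1 hc.1) : c * y = y * c).symm) k)

variable [hab : IsMulCommutative P]

theorem exists_aut_of_isConj {u v : (P : Subgroup G)} (h : IsConj (u : G) (v : G)) :
    ∃ a : autP P, (a : MulAut (P : Subgroup G)) u = v := by
  obtain ⟨g, hg⟩ := isConj_iff.1 h
  obtain ⟨n, hn, he⟩ := P.conj_eq_normalizer_conj_of_mem (u : G) g⁻¹ u.2 (by
    rw [inv_inv, hg]; exact v.2)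
  rw [inv_inv, hg] at he
  refine ⟨⟨(P : Subgroup G).normalizerMonoidHom ⟨n⁻¹, inv_mem hn⟩, ⟨_, rfl⟩⟩, Subtype.ext ?_⟩
  rw [normalizerMonoidHom_coe, inv_inv]
  exact he.symm

omit hab in
theorem isConj_aut_apply (a : autP P) (u : (P : Subgroup G)) :
    IsConj (u : G) ((a : MulAut (P : Subgroup G)) u : G) := by
  obtain ⟨n, hn⟩ := a.2
  exact isConj_iff.2 ⟨n, by rw [← hn, normalizerMonoidHom_coe]⟩

theorem aut_apply_injective (hfrob : Frob P) {u : (P : Subgroup G)} (hu : u ≠ 1) :
    Function.Injective fun a : autP P => (a : MulAut (P : Subgroup G)) u := by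
  intro a b hab'
  by_contra hne
  refine hu (fpf_autP hfrob _ (b⁻¹ * a).2 (fun e => hne ?_) u ?_)
  · have : b⁻¹ * a = 1 := Subtype.ext e
    exact (inv_mul_eq_one.1 this).symm
  · rw [Subgroup.coe_mul, MulAut.mul_apply, Subgroup.coe_inv]
    simp only at hab'
    rw [hab', MulAut.inv_apply, MulEquiv.symm_apply_apply]

theorem ne_one_of_ne {u : (P : Subgroup G)} (hu : u ≠ 1) : (u : G) ≠ 1 := fun e => hu (Subtype.ext e)

theorem isPPart_self (u : (P : Subgroup G)) : IsPPart p (u : G) (u : G) :=
  ⟨1, mul_one _, Commute.one_right _, exists_orderOf u,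
    by simpa using (Fact.out : p.Prime).ne_one⟩

theorem orderOf_eq_mul_of_isPPart {g w : G} (h : IsPPart p g w) :
    ∃ k, orderOf w = p ^ k ∧ orderOf w ∣ orderOf g ∧ (p ∣ orderOf g ↔ w ≠ 1) := by
  obtain ⟨s, rfl, hc, ⟨k, hk⟩, hs⟩ := h
  have hco : (orderOf w).Coprime (orderOf s) := by
    rw [hk]; exact (((Fact.out : p.Prime).coprime_iff_not_dvd).2 hs).pow_left k
  have he := hc.orderOf_mul_eq_mul_orderOf_of_coprime hco
  refine ⟨k, hk, he ▸ dvd_mul_right _ _, fun hd hw => ?_, fun hw => ?_⟩
  · rw [he, hw, orderOf_one, one_mul] at hd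
    exact hs hd
  · rw [he, hk]
    rcases k.eq_zero_or_pos with rfl | hpos
    · exact absurd (orderOf_eq_one_iff.1 (hk.trans (pow_zero p))) hw
    · exact (dvd_pow_self p hpos.ne').mul_right _

/-- The principal block as a finset. -/
noncomputable def block (G : Type u) [Group G] [Fintype G] (M : Ideal AlgInt) :
    Finset (IrrCharacter G) :=
  (principalBlock M G).toFinite.toFinset

theorem mem_block {χ : IrrCharacter G} : χ ∈ block G M ↔ χ ∈ principalBlock M G :=
  Set.Finite.mem_toFinset _

open scoped Classical in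
/-- The column of `u` picks out the section of `u`. -/
theorem sum_column (hM : IsPModular p M) (hfrob : Frob P) {u : (P : Subgroup G)} (hu : u ≠ 1)
    (g : G) :
    ∑ χ ∈ block G M, (χ : G → ℂ) g * (χ : G → ℂ) (u : G)⁻¹ =
      if ∃ w, IsPPart p g w ∧ IsConj w (u : G) then (Nat.card (P : Subgroup G) : ℂ) else 0 := by
  obtain ⟨w, hw⟩ := exists_isPPart (G := G) hM.1 g
  by_cases hc : IsConj w (u : G)
  · rw [if_pos ⟨w, hw, hc⟩]
    obtain ⟨c, hc'⟩ := isConj_iff.1 hc
    rw [← column_self hM hfrob (ne_one_of_ne hu)]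
    refine Finset.sum_congr rfl fun χ hχ => ?_
    congr 1
    have h := isPPart_conj hw c
    rw [hc'] at h
    rw [← apply_section hM hfrob (mem_block.1 hχ) h (ne_one_of_ne hu)]
    exact (Chars.isClassFunction_coe χ g c).symm
  · rw [if_neg fun ⟨w', hw', hc'⟩ => hc (isPPart_unique hM.1 hw hw' ▸ hc')]
    exact sum_mul_inv_eq_zero_of_pPart hM (isIntegralSet_block hM isPBlock_principalBlock) hw
      (isPPart_self u) fun h => hc h.symm

open scoped Classical in
/-- The non-identity elements of `P`. -/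
noncomputable def offOne [Fintype (P : Subgroup G)] : Finset (P : Subgroup G) :=
  Finset.univ.filter fun u => u ≠ 1

omit [Fintype G] [Fact p.Prime] hab in
theorem mem_offOne [Fintype (P : Subgroup G)] {u : (P : Subgroup G)} :
    u ∈ offOne (P := P) ↔ u ≠ 1 := by simp [offOne]

omit [Fintype G] [Fact p.Prime] hab in
theorem card_offOne [Fintype (P : Subgroup G)] :
    (offOne (P := P)).card + 1 = Nat.card (P : Subgroup G) := by
  classical
  rw [Nat.card_eq_fintype_card, ← Finset.card_univ, offOne, Finset.filter_ne']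
  exact Finset.card_erase_add_one (Finset.mem_univ _)

open scoped Classical in
/-- The columns of all non-identity elements of `P` pick out the singular elements. -/
theorem sum_columns (hM : IsPModular p M) (hfrob : Frob P) [Fintype (P : Subgroup G)] (g : G) :
    ∑ u ∈ offOne (P := P), ∑ χ ∈ block G M, (χ : G → ℂ) g * (χ : G → ℂ) (u : G)⁻¹ =
      (Nat.card (P : Subgroup G) : ℂ) * Nat.card (autP P) *
        if p ∣ orderOf g then 1 else 0 := by
  rw [Finset.sum_congr rfl fun u hu => sum_column hM hfrob (mem_offOne.1 hu) g]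
  obtain ⟨w, hw⟩ := exists_isPPart (G := G) hM.1 g
  obtain ⟨k, hk, -, hsing⟩ := orderOf_eq_mul_of_isPPart hw
  have hiff : ∀ u : (P : Subgroup G),
      (∃ w', IsPPart p g w' ∧ IsConj w' (u : G)) ↔ IsConj w (u : G) :=
    fun u => ⟨fun ⟨w', hw', hc⟩ => isPPart_unique hM.1 hw hw' ▸ hc, fun hc => ⟨w, hw, hc⟩⟩
  simp only [hiff, ← Finset.sum_filter, Finset.sum_const, nsmul_eq_mul]
  by_cases hs : p ∣ orderOf g
  · have hw1 := hsing.1 hs
    obtain ⟨Q, hQ⟩ := (IsPGroup.of_card (n := k) (by rw [Nat.card_zpowers, hk]) :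
      IsPGroup p (Subgroup.zpowers w)).exists_le_sylow
    obtain ⟨c, hc⟩ := MulAction.exists_smul_eq G Q P
    have hmem : c * w * c⁻¹ ∈ (P : Subgroup G) := by
      rw [← hc, Sylow.smul_def]
      exact ⟨w, hQ (Subgroup.mem_zpowers w), rfl⟩
    set u₀ : (P : Subgroup G) := ⟨c * w * c⁻¹, hmem⟩ with hu₀
    have hu₀1 : u₀ ≠ 1 := fun e => hw1 (conj_eq_one_iff.1 (congrArg Subtype.val e))
    have hwu₀ : IsConj w (u₀ : G) := isConj_iff.2 ⟨c, rfl⟩
    haveI := Fintype.ofFinite (autP P)
    have hset : (offOne (P := P)).filter (fun u : (P : Subgroup G) => IsConj w (u : G)) =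
        Finset.univ.image fun a : autP P => (a : MulAut (P : Subgroup G)) u₀ := by
      ext u
      simp only [Finset.mem_filter, mem_offOne, Finset.mem_image, Finset.mem_univ, true_and]
      constructor
      · rintro ⟨-, hu⟩
        exact exists_aut_of_isConj (hwu₀.symm.trans hu)
      · rintro ⟨a, rfl⟩
        exact ⟨fun e => hu₀1 ((MulEquiv.map_eq_one_iff _).1 e),
          hwu₀.trans (isConj_aut_apply a u₀)⟩
    rw [hset, Finset.card_image_of_injective _ (aut_apply_injective hfrob hu₀1), if_pos hs,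
      Finset.card_univ, Nat.card_eq_fintype_card (α := autP P)]
    ring
  · rw [if_neg hs, Finset.filter_eq_empty_iff.2 fun u hu hc => ?_]
    · simp
    · have hw1 : w = 1 := not_not.1 fun h => hs (hsing.2 h)
      rw [hw1] at hc
      exact mem_offOne.1 hu (Subtype.ext ((isConj_one_right (a := (u : G))).1 hc))

/-- The sum over the block weighted by the columns off the identity. -/
noncomputable def colWeight [Fintype (P : Subgroup G)] (χ : IrrCharacter G) : ℂ :=
  ∑ u ∈ offOne (P := P), (χ : G → ℂ) (u : G)⁻¹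

/-- The structure constant of `x` and `w` against the singular elements. -/
noncomputable def singCoeff (M : Ideal AlgInt) (P : Sylow p G) [Fintype (P : Subgroup G)]
    (x w : G) : ℂ :=
  ∑ χ ∈ block G M, (χ : G → ℂ) x * (χ : G → ℂ) w * colWeight (P := P) χ / (χ : G → ℂ) 1

open scoped Classical in
theorem card_mul_singCoeff (hM : IsPModular p M) (hfrob : Frob P) [Fintype (P : Subgroup G)]
    (x w : G) :
    (Nat.card G : ℂ) * singCoeff M P x w = (Nat.card (P : Subgroup G) : ℂ) * Nat.card (autP P) *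
      ∑ a : G, if p ∣ orderOf (a * x * a⁻¹ * w) then (1 : ℂ) else 0 := by
  rw [Finset.mul_sum, Finset.sum_congr rfl fun a _ => (sum_columns hM hfrob _).symm, singCoeff,
    Finset.mul_sum]
  rw [Finset.sum_congr rfl fun a _ => Finset.sum_comm, Finset.sum_comm]
  refine Finset.sum_congr rfl fun χ _ => ?_
  rw [Finset.sum_congr rfl fun a _ => (Finset.mul_sum _ _ _).symm, ← Finset.sum_mul,
    sum_irrCharacter_conj_mul χ w x, colWeight]
  ring

open scoped Classical in
/-- The structure constant of `x`, `w` and the section of `u`. -/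
theorem card_mul_sum_section (hM : IsPModular p M) (hfrob : Frob P) {u : (P : Subgroup G)}
    (hu : u ≠ 1) (x w : G) :
    (Nat.card G : ℂ) *
        ∑ χ ∈ block G M, (χ : G → ℂ) x * (χ : G → ℂ) w * (χ : G → ℂ) (u : G)⁻¹ / (χ : G → ℂ) 1 =
      ∑ a : G, if ∃ v, IsPPart p (a * x * a⁻¹ * w) v ∧ IsConj v (u : G)
        then (Nat.card (P : Subgroup G) : ℂ) else 0 := by
  rw [Finset.sum_congr rfl fun a _ => (sum_column hM hfrob hu _).symm, Finset.mul_sum,
    Finset.sum_comm]
  refine Finset.sum_congr rfl fun χ _ => ?_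
  rw [← Finset.sum_mul, sum_irrCharacter_conj_mul χ w x]
  ring

end CfsgLib.ConjFunctor.CyclicPairs
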