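import Mathlib.GroupTheory.Sylow
import Mathlib.GroupTheory.SpecificGroups.Cyclic
import Cfsg.Prelude.Def_Solvable
import Cfsg.Agent.Eq.Def_Solvable
import Cfsg.Agent.Constrained.PSolvable
import Cfsg.Agent.Transfer.CyclicSylow

/-!
Two elements of order `p` in a group with cyclic Sylow `p`-subgroups generating a `p`-solvable
subgroup: the subgroup is a `p'`-group extended by a group of order `p`.
-/

set_option autoImplicit false

namespace CfsgLib.ConjFunctor.CyclicPairs

open Cfsg CfsgLib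

variable {G H : Type*} [Group G] [Group H] {p : ℕ} [hp : Fact p.Prime]

theorem isCyclic_sylow_all [Finite G] (P : Sylow p G) (hP : IsCyclic (P : Subgroup G))
    (R : Sylow p G) : IsCyclic (R : Subgroup G) :=
  haveI := hP
  isCyclic_of_surjective (P.equiv R).toMonoidHom (P.equiv R).surjective

theorem isCyclic_sylow_of_injective [Finite G] [Finite H] (P : Sylow p G)
    (hP : IsCyclic (P : Subgroup G)) (f : H →* G) (hf : Function.Injective f) (Q : Sylow p H) :
    IsCyclic (Q : Subgroup H) := by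
  obtain ⟨R, hR⟩ := (Q.2.map f).exists_le_sylow
  haveI := isCyclic_sylow_all P hP R
  let g : (Q : Subgroup H) →* (R : Subgroup G) :=
    (f.comp (Q : Subgroup H).subtype).codRestrict _ fun z => hR ⟨z, z.2, rfl⟩
  exact isCyclic_of_injective g fun a b h =>
    Subtype.ext (hf (congrArg Subtype.val h))

theorem isCyclic_sylow_of_surjective [Finite G] [Finite H] (P : Sylow p G)
    (hP : IsCyclic (P : Subgroup G)) (f : G →* H) (hf : Function.Surjective f) (Q : Sylow p H) :
    IsCyclic (Q : Subgroup H) := by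
  refine isCyclic_sylow_all (P.mapSurjective hf) ?_ Q
  haveI := hP
  rw [Sylow.coe_mapSurjective]
  exact isCyclic_of_surjective (f.subgroupMap (P : Subgroup G))
    (f.subgroupMap_surjective (P : Subgroup G))

/-- In a finite cyclic group the solutions of `a ^ p = 1` form one subgroup. -/
theorem mem_zpowers_of_cyclic {C : Type*} [Group C] [Finite C] [IsCyclic C] {a z : C}
    (hz : orderOf z = p) (ha : a ^ p = 1) : a ∈ Subgroup.zpowers z := by
  classical
  haveI := Fintype.ofFinite C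
  have hle := IsCyclic.card_pow_eq_one_le (α := C) (n := p) hp.out.pos
  by_contra hn
  have hsub : insert a (Finset.univ.filter fun c : C => c ∈ Subgroup.zpowers z) ⊆
      Finset.univ.filter fun c : C => c ^ p = 1 := by
    intro c hc
    rw [Finset.mem_filter]
    refine ⟨Finset.mem_univ c, ?_⟩
    rcases Finset.mem_insert.1 hc with rfl | hc
    · exact ha
    · obtain ⟨k, rfl⟩ := Subgroup.mem_zpowers_iff.1 (Finset.mem_filter.1 hc).2
      rw [← hz, ← zpow_natCast, ← zpow_mul, mul_comm, zpow_mul, zpow_natCast, pow_orderOf_eq_one,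
        one_zpow]
  have h1 := (Finset.card_le_card hsub).trans hle
  rw [Finset.card_insert_of_notMem (by simp [hn])] at h1
  have h2 : (Finset.univ.filter fun c : C => c ∈ Subgroup.zpowers z).card = p := by
    rw [← Fintype.card_subtype, ← Nat.card_eq_fintype_card]
    exact (Nat.card_zpowers z).trans hz
  omega

/-- Elements of order `p` lie in the subgroup of order `p` of `O_p`. -/
theorem mem_zpowers_of_mem_pCore [Finite G] (P : Sylow p G) (hP : IsCyclic (P : Subgroup G))
    {z a : G} (hz : z ∈ pCore p G) (hzo : orderOf z = p) (ha : a ^ p = 1) :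
    a ∈ Subgroup.zpowers z := by
  have hap : IsPGroup p (Subgroup.zpowers a) := by
    have hd : orderOf a ∣ p ^ 1 := by rw [pow_one]; exact orderOf_dvd_of_pow_eq_one ha
    obtain ⟨k, -, hk⟩ := (Nat.dvd_prime_pow hp.out).1 hd
    exact IsPGroup.of_card (n := k) ((Nat.card_zpowers a).trans hk)
  obtain ⟨R, hR⟩ := hap.exists_le_sylow
  have hzR : z ∈ (R : Subgroup G) := by
    rw [← R.is_maximal' ((Constrained.isPGroup_pCore (p := p)).to_sup_of_normal_left R.2)
      le_sup_right]
    exact Subgroup.mem_sup_left hz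
  haveI := isCyclic_sylow_all P hP R
  obtain ⟨k, hk⟩ := Subgroup.mem_zpowers_iff.1 (mem_zpowers_of_cyclic (p := p)
    (C := (R : Subgroup G)) (a := ⟨a, hR (Subgroup.mem_zpowers a)⟩) (z := ⟨z, hzR⟩)
    (by rw [Subgroup.orderOf_mk]; exact hzo) (Subtype.ext (by simpa using ha)))
  exact Subgroup.mem_zpowers_iff.2 ⟨k, congrArg Subtype.val hk⟩

/-- The structure of the subgroup generated by two elements of order `p`. -/
theorem pair_structure [Finite G] (P : Sylow p G) (hP : IsCyclic (P : Subgroup G)) {x y : G}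
    (hx : orderOf x = p) (hy : orderOf y = p)
    (hsol : IsPSolvable p (Subgroup.closure ({x, y} : Set G))) :
    ∃ i : ℕ, IsConj (x ^ i) y ∧
      (∀ j : ℕ, j ≡ i [MOD p] → ¬ p ∣ orderOf (y * (x ^ j)⁻¹)) ∧
      (∀ j : ℕ, ¬ j ≡ i [MOD p] → p ∣ orderOf (y * (x ^ j)⁻¹)) ∧
      ∀ j : ℕ, ¬ p ^ 2 ∣ orderOf (y * (x ^ j)⁻¹) := by
  set X := Subgroup.closure ({x, y} : Set G) with hX
  let x' : X := ⟨x, Subgroup.subset_closure (Set.mem_insert _ _)⟩
  let y' : X := ⟨y, Subgroup.subset_closure (Set.mem_insert_of_mem _ rfl)⟩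
  have hx' : orderOf x' = p := by rw [← hx, ← Subgroup.orderOf_coe]
  have hy' : orderOf y' = p := by rw [← hy, ← Subgroup.orderOf_coe]
  set K := pPrimeCore p X with hK
  set π := QuotientGroup.mk' K with hπ
  have hKp : ¬ p ∣ Nat.card K := Constrained.pPrimeCore_not_dvd
  have hnotK : ∀ w : X, orderOf w = p → w ∉ K := fun w hw hwK => hKp (by
    rw [← hw, ← Subgroup.orderOf_mk w hwK]; exact orderOf_dvd_natCard _)
  have hord : ∀ w : X, orderOf w = p → orderOf (π w) = p := fun w hw =>
    orderOf_eq_prime (by rw [← map_pow, orderOf_dvd_iff_pow_eq_one.1 hw.dvd, map_one])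
      fun h => hnotK w hw ((QuotientGroup.eq_one_iff w).1 h)
  obtain ⟨Q⟩ : Nonempty (Sylow p X) := inferInstance
  have hQ := isCyclic_sylow_of_injective P hP X.subtype X.subtype_injective Q
  let Qb := Q.mapSurjective (QuotientGroup.mk'_surjective K)
  have hQb : IsCyclic (Qb : Subgroup (X ⧸ K)) :=
    isCyclic_sylow_of_surjective Q hQ _ (QuotientGroup.mk'_surjective K) Qb
  haveI : Nontrivial (X ⧸ K) :=
    ⟨⟨π x', 1, fun h => hnotK x' hx' ((QuotientGroup.eq_one_iff x').1 h)⟩⟩
  have hO : pCore p (X ⧸ K) ≠ ⊥ :=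
    (Constrained.IsPSolvable.core_ne_bot (Constrained.IsPSolvable.quotient hsol K)).resolve_right
      (not_not.2 Constrained.pPrimeCore_quotient_pPrimeCore)
  haveI : Nontrivial (pCore p (X ⧸ K)) := (Subgroup.nontrivial_iff_ne_bot _).2 hO
  obtain ⟨n, hn⟩ := IsPGroup.iff_card.1 (Constrained.isPGroup_pCore (G := X ⧸ K) (p := p))
  obtain ⟨z, hz⟩ := exists_prime_orderOf_dvd_card' (G := pCore p (X ⧸ K)) p (by
    rw [hn]
    refine dvd_pow_self p ?_
    rintro rfl
    exact (Finite.one_lt_card (α := pCore p (X ⧸ K))).ne' (by simpa using hn))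
  rw [← Subgroup.orderOf_coe] at hz
  have hmem : ∀ w : X, orderOf w = p → π w ∈ Subgroup.zpowers (z : X ⧸ K) := fun w hw =>
    mem_zpowers_of_mem_pCore Qb hQb z.2 hz
      (by rw [← map_pow, orderOf_dvd_iff_pow_eq_one.1 hw.dvd, map_one])
  have htop : Subgroup.zpowers (z : X ⧸ K) = ⊤ := by
    rw [eq_top_iff, ← Subgroup.map_top_of_surjective π (QuotientGroup.mk'_surjective K),
      Subgroup.map_le_iff_le_comap]
    rintro ⟨v, hv⟩ -
    rw [Subgroup.mem_comap]
    induction hv using Subgroup.closure_induction with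
    | mem u hu =>
      rcases hu with rfl | rfl
      · exact hmem x' hx'
      · exact hmem y' hy'
    | one => exact (congrArg (· ∈ _) (map_one π)).mpr (one_mem _)
    | mul a b ha hb iha ihb =>
      exact (congrArg (· ∈ _) (map_mul π ⟨a, ha⟩ ⟨b, hb⟩)).mpr (mul_mem iha ihb)
    | inv a ha iha => exact (congrArg (· ∈ _) (map_inv π ⟨a, ha⟩)).mpr (inv_mem iha)
  have hcardQ : Nat.card (X ⧸ K) = p := by
    rw [← Subgroup.card_top, ← htop, Nat.card_zpowers, hz]
  have hcard : Nat.card X = p * Nat.card K := by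
    rw [Subgroup.card_eq_card_quotient_mul_card_subgroup K, hcardQ]
  have hsq : ¬ p ^ 2 ∣ Nat.card X := fun h => by
    rw [hcard, pow_two] at h
    exact hKp ((Nat.mul_dvd_mul_iff_left hp.out.pos).1 h)
  have hfac : (Nat.card X).factorization p = 1 := by
    rw [hcard, Nat.factorization_mul hp.out.ne_zero Nat.card_pos.ne']
    simp [hp.out.factorization_self, Nat.factorization_eq_zero_of_not_dvd hKp]
  let Sx : Sylow p X := Sylow.ofCard (Subgroup.zpowers x')
    (by rw [hfac, pow_one, Nat.card_zpowers, hx'])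
  let Sy : Sylow p X := Sylow.ofCard (Subgroup.zpowers y')
    (by rw [hfac, pow_one, Nat.card_zpowers, hy'])
  obtain ⟨c, hc⟩ := MulAction.exists_smul_eq X Sx Sy
  have hyc : y' ∈ (c • Sx : Sylow p X) := by rw [hc]; exact Subgroup.mem_zpowers y'
  rw [Sylow.smul_def] at hyc
  obtain ⟨w, hw, hwy⟩ := hyc
  obtain ⟨i, hi⟩ := (Subgroup.mem_zpowers_iff.1 hw).imp fun k hk => hk
  have hi' : ∃ i : ℕ, x' ^ i = w := by
    have : w ∈ Submonoid.powers x' := mem_powers_iff_mem_zpowers.2 hw
    exact this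
  obtain ⟨i, rfl⟩ := hi'
  have hconj : c * x' ^ i * c⁻¹ = y' := hwy
  have hcomm : ∀ a b : X ⧸ K, a * b = b * a := by
    intro a b
    obtain ⟨k, rfl⟩ := Subgroup.mem_zpowers_iff.1 (htop ▸ Subgroup.mem_top a)
    obtain ⟨l, rfl⟩ := Subgroup.mem_zpowers_iff.1 (htop ▸ Subgroup.mem_top b)
    exact zpow_mul_comm _ k l
  have himg : π y' = π x' ^ i := by
    rw [← hconj, map_mul, map_mul, map_pow, hcomm (π c), mul_assoc, ← map_mul, mul_inv_cancel,
      map_one, mul_one]
  have hval : ∀ j : ℕ, π (y' * (x' ^ j)⁻¹) = π x' ^ i * (π x' ^ j)⁻¹ := fun j => by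
    rw [map_mul, map_inv, map_pow, himg]
  refine ⟨i, isConj_iff.2 ⟨c, congrArg Subtype.val hconj⟩, fun j hj => ?_, fun j hj => ?_,
    fun j h => hsq (h.trans ?_)⟩
  · intro hd
    have hmemK : y' * (x' ^ j)⁻¹ ∈ K := by
      rw [← QuotientGroup.eq_one_iff]
      show π (y' * (x' ^ j)⁻¹) = 1
      rw [hval, mul_inv_eq_one, pow_eq_pow_iff_modEq, hord x' hx']
      exact hj.symm
    apply hKp
    refine hd.trans ?_
    rw [show y * (x ^ j)⁻¹ = ((y' * (x' ^ j)⁻¹ : X) : G) from rfl, Subgroup.orderOf_coe,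
      ← Subgroup.orderOf_mk _ hmemK]
    exact orderOf_dvd_natCard _
  · rw [show y * (x ^ j)⁻¹ = ((y' * (x' ^ j)⁻¹ : X) : G) from rfl, Subgroup.orderOf_coe]
    refine dvd_trans (dvd_of_eq ?_) (orderOf_map_dvd π _)
    symm
    refine orderOf_eq_prime ?_ ?_
    · have := pow_card_eq_one' (G := X ⧸ K) (x := π (y' * (x' ^ j)⁻¹))
      rwa [hcardQ] at this
    · intro h
      apply hj
      rw [hval, mul_inv_eq_one, pow_eq_pow_iff_modEq, hord x' hx'] at h
      exact h.symm
  · rw [show y * (x ^ j)⁻¹ = ((y' * (x' ^ j)⁻¹ : X) : G) from rfl, Subgroup.orderOf_coe]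
    exact orderOf_dvd_natCard _

end CfsgLib.ConjFunctor.CyclicPairs
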