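import Cfsg.Agent.ConjFunctor.CyclicPairs.Eta
import Cfsg.Agent.ConjFunctor.CyclicPairs.Local

/-!
The values of the structure constants forced by the condition on pairs.
-/

set_option autoImplicit false
open Cfsg CfsgLib
open CfsgLib.Blocks CfsgLib.Blocks.AbelianFrobenius

namespace CfsgLib.ConjFunctor.CyclicPairs

universe u

variable {G : Type u} [Group G]

/-- Every conjugate of `x` generates with `x` a `p'`-by-order-`p` group. -/
def PairCond (p : ℕ) (x : G) : Prop :=
  ∀ h : G, ∃ i : ℕ, IsConj (x ^ i) (h * x * h⁻¹) ∧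
    (∀ j : ℕ, j ≡ i [MOD p] → ¬ p ∣ orderOf (h * x * h⁻¹ * (x ^ j)⁻¹)) ∧
    (∀ j : ℕ, ¬ j ≡ i [MOD p] → p ∣ orderOf (h * x * h⁻¹ * (x ^ j)⁻¹)) ∧
    ∀ j : ℕ, ¬ p ^ 2 ∣ orderOf (h * x * h⁻¹ * (x ^ j)⁻¹)

variable [Fintype G] {p : ℕ} [Fact p.Prime] {M : Ideal AlgInt} {P : Sylow p G}
  [IsMulCommutative P] [Fintype (P : Subgroup G)]

omit [IsMulCommutative P] [Fintype G] [Fintype (P : Subgroup G)] in
theorem pow_eq_pow_of_modEq {x : (P : Subgroup G)} (hx : orderOf (x : G) = p) {i j : ℕ}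
    (h : j ≡ i [MOD p]) : x ^ j = x ^ i := by
  rw [pow_eq_pow_iff_modEq, ← Subgroup.orderOf_coe, hx]
  exact h

omit [Fintype (P : Subgroup G)] in
theorem exists_aut_eq_pow (h : G) {x : (P : Subgroup G)} {i : ℕ}
    (hi : IsConj ((x : G) ^ i) (h * x * h⁻¹)) :
    ∃ a : autP P, (a : MulAut (P : Subgroup G)) x = x ^ i := by
  refine exists_aut_of_isConj ((isConj_iff.2 ⟨h, rfl⟩ : IsConj (x : G) (h * x * h⁻¹)).trans ?_)
  rw [Subgroup.coe_pow]
  exact hi.symm

omit [IsMulCommutative P] [Fintype (P : Subgroup G)] in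
theorem exists_pow_eq_aut (hP : IsCyclic (P : Subgroup G)) {x : (P : Subgroup G)}
    (hx : orderOf (x : G) = p) (a : autP P) :
    ∃ j : ℕ, (a : MulAut (P : Subgroup G)) x = x ^ j := by
  have hxp : orderOf x = p := by rw [← Subgroup.orderOf_coe]; exact hx
  have hmem : (a : MulAut (P : Subgroup G)) x ∈ Subgroup.zpowers x :=
    mem_zpowers_of_cyclic (p := p) hxp
      (by rw [← map_pow, orderOf_dvd_iff_pow_eq_one.1 hxp.dvd, map_one])
  obtain ⟨j, hj⟩ := mem_powers_iff_mem_zpowers.2 hmem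
  exact ⟨j, hj.symm⟩

open scoped Classical in
theorem singCoeff_self (hM : IsPModular p M) (hfrob : Frob P) (hP : IsCyclic (P : Subgroup G))
    {x : (P : Subgroup G)} (hx : orderOf (x : G) = p) (hpc : PairCond p (x : G)) :
    singCoeff M P (x : G) (x : G)⁻¹ =
      (Nat.card (P : Subgroup G) : ℂ) * ((Nat.card (autP P) : ℂ) - 1) := by
  haveI := Fintype.ofFinite (autP P)
  have hx1 : x ≠ 1 := by
    rintro rfl
    rw [Subgroup.coe_one, orderOf_one] at hx
    exact (Fact.out : p.Prime).ne_one hx.symm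
  set F : autP P → ℂ := fun a => ∑ h : G,
    if p ∣ orderOf (h * x * h⁻¹ * (((a : MulAut (P : Subgroup G)) x : G))⁻¹) then (1 : ℂ) else 0
    with hF
  set F₀ : ℂ := ∑ h : G, if p ∣ orderOf (h * (x : G) * h⁻¹ * (x : G)⁻¹) then (1 : ℂ) else 0 with hF₀
  have hconst : ∀ a, F a = F₀ := by
    intro a
    obtain ⟨n, hn⟩ := isConj_iff.1 (isConj_aut_apply a x)
    simp only [hF, hF₀, ← hn]
    refine Fintype.sum_equiv (Equiv.mulLeft n⁻¹) _ _ fun h => ?_
    have hord : orderOf (h * x * h⁻¹ * (n * (x : G) * n⁻¹)⁻¹) =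
        orderOf (n⁻¹ * h * x * (n⁻¹ * h)⁻¹ * (x : G)⁻¹) := by
      rw [← MulEquiv.orderOf_eq (MulAut.conj n) (n⁻¹ * h * x * (n⁻¹ * h)⁻¹ * (x : G)⁻¹)]
      congr 1
      simp only [MulAut.conj_apply]
      group
    simp only [Equiv.coe_mulLeft, hord]
    split_ifs with hh
    · exact (if_pos hh).symm
    · exact (if_neg hh).symm
  have hsum : ∑ a, F a = (Nat.card G : ℂ) * ((Nat.card (autP P) : ℂ) - 1) := by
    simp only [hF]
    rw [Finset.sum_comm]
    have : ∀ h : G, (∑ a : autP P, if p ∣ orderOf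
        (h * x * h⁻¹ * (((a : MulAut (P : Subgroup G)) x : G))⁻¹) then (1 : ℂ) else 0) =
        (Nat.card (autP P) : ℂ) - 1 := by
      intro h
      obtain ⟨i, hi, hreg, hsing, -⟩ := hpc h
      obtain ⟨a₀, ha₀⟩ := exists_aut_eq_pow h hi
      have hset : (Finset.univ.filter fun a : autP P => p ∣ orderOf
          (h * x * h⁻¹ * (((a : MulAut (P : Subgroup G)) x : G))⁻¹)) = Finset.univ.erase a₀ := by
        ext a
        simp only [Finset.mem_filter, Finset.mem_univ, true_and, Finset.mem_erase, and_true]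
        obtain ⟨j, hj⟩ := exists_pow_eq_aut hP hx a
        constructor
        · intro hd ha
          subst ha
          rw [ha₀, Subgroup.coe_pow] at hd
          exact hreg i rfl hd
        · intro hne
          rw [hj, Subgroup.coe_pow]
          refine hsing j fun hji => hne (aut_apply_injective hfrob hx1 ?_)
          show (a : MulAut (P : Subgroup G)) x = (a₀ : MulAut (P : Subgroup G)) x
          rw [hj, ha₀, pow_eq_pow_of_modEq hx hji]
      rw [← Finset.sum_filter, hset, Finset.sum_const, nsmul_eq_mul, mul_one,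
        Finset.card_erase_of_mem (Finset.mem_univ _), Finset.card_univ,
        Nat.card_eq_fintype_card, Nat.cast_sub Fintype.card_pos, Nat.cast_one]
    rw [Finset.sum_congr rfl fun h _ => this h, Finset.sum_const, Finset.card_univ, nsmul_eq_mul,
      ← Nat.card_eq_fintype_card]
  rw [Finset.sum_congr rfl fun a _ => hconst a, Finset.sum_const, Finset.card_univ, nsmul_eq_mul,
    ← Nat.card_eq_fintype_card] at hsum
  have h := card_mul_singCoeff hM hfrob (x : G) (x : G)⁻¹
  rw [← hF₀, mul_assoc, hsum, ← mul_assoc, mul_comm (Nat.card (P : Subgroup G) : ℂ),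
    mul_assoc] at h
  exact mul_left_cancel₀ Chars.natCard_ne_zero h

open scoped Classical in
theorem singCoeff_of_not_aut (hM : IsPModular p M) (hfrob : Frob P) {x : (P : Subgroup G)}
    (hx : orderOf (x : G) = p) (hpc : PairCond p (x : G)) (j : ℕ)
    (hj : ∀ a : autP P, (a : MulAut (P : Subgroup G)) x ≠ x ^ j) :
    singCoeff M P (x : G) ((x : G) ^ j)⁻¹ =
      (Nat.card (P : Subgroup G) : ℂ) * Nat.card (autP P) := by
  have h := card_mul_singCoeff hM hfrob (x : G) ((x : G) ^ j)⁻¹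
  rw [Finset.sum_congr rfl fun a _ => if_pos ?_] at h
  · rw [Finset.sum_const, Finset.card_univ, nsmul_eq_mul, mul_one,
      ← Nat.card_eq_fintype_card, mul_comm _ (Nat.card G : ℂ)] at h
    exact mul_left_cancel₀ Chars.natCard_ne_zero h
  · obtain ⟨i, hi, -, hsing, -⟩ := hpc a
    obtain ⟨b, hb⟩ := exists_aut_eq_pow a hi
    exact hsing j fun hji => hj b (by rw [hb, pow_eq_pow_of_modEq hx hji])

omit [Fintype (P : Subgroup G)] in
open scoped Classical in
theorem sum_section_eq_zero (hM : IsPModular p M) (hfrob : Frob P) {x u : (P : Subgroup G)}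
    (hpc : PairCond p (x : G)) (hu : p ^ 2 ∣ orderOf (u : G)) :
    ∑ χ ∈ block G M, (χ : G → ℂ) x * (χ : G → ℂ) (x : G)⁻¹ * (χ : G → ℂ) (u : G)⁻¹ /
      (χ : G → ℂ) 1 = 0 := by
  have hu1 : u ≠ 1 := by
    rintro rfl
    rw [Subgroup.coe_one, orderOf_one, Nat.dvd_one] at hu
    exact (Nat.one_lt_pow two_ne_zero (Fact.out : p.Prime).one_lt).ne' hu
  have h := card_mul_sum_section hM hfrob hu1 (x : G) (x : G)⁻¹
  rw [Finset.sum_congr rfl fun a _ => if_neg ?_, Finset.sum_const_zero] at h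
  · exact (mul_eq_zero.1 h).resolve_left Chars.natCard_ne_zero
  · rintro ⟨v, hv, hc⟩
    obtain ⟨k, -, hdvd, -⟩ := orderOf_eq_mul_of_isPPart hv
    obtain ⟨c, hc'⟩ := isConj_iff.1 hc
    have hvu : orderOf (u : G) = orderOf v := by
      rw [← hc']; exact MulEquiv.orderOf_eq (MulAut.conj c) v
    obtain ⟨i, -, -, -, hsq⟩ := hpc a
    have h2 := hsq 1
    rw [pow_one] at h2
    exact h2 ((hvu ▸ hu).trans hdvd)

end CfsgLib.ConjFunctor.CyclicPairs
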