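import Cfsg.Agent.ConjFunctor.CyclicPairs.Columns

/-!
Sums over the orbit characters, and non-negativity of multiplicities on a Sylow subgroup.
-/

set_option autoImplicit false
open Cfsg CfsgLib
open CfsgLib.Blocks CfsgLib.Blocks.AbelianFrobenius

namespace CfsgLib.ConjFunctor.CyclicPairs

universe u

variable {P : Type u} [Group P] [Fintype P] (A : Subgroup (MulAut P)) [Fintype A]

/-- The orbit sum attached to an orbit of non-trivial linear characters. -/
noncomputable def eta (i : Orb A) (y : P) : ℂ :=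
  ∑ a : A, (Orb.rep A i ((a : MulAut P) y) : ℂ)

theorem eta_one (i : Orb A) : eta A i 1 = (Fintype.card A : ℂ) := by
  simp [eta]

theorem eta_mul (i : Orb A) (y z : P) :
    eta A i y * eta A i z = ∑ b : A, eta A i (y * (b : MulAut P) z) := by
  simp only [eta]
  rw [Finset.sum_mul_sum]
  conv_rhs => rw [Finset.sum_comm]
  refine Finset.sum_congr rfl fun a _ => ?_
  refine (Fintype.sum_equiv (Equiv.mulLeft a) _ _ fun b => ?_).symm
  simp [map_mul, Units.val_mul, MulAut.mul_apply]

theorem sum_linChar_eq [IsMulCommutative P] [Fintype (P →* ℂˣ)] [DecidableEq P] (y : P) :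
    ∑ ψ : P →* ℂˣ, (ψ y : ℂ) = if y = 1 then (Fintype.card P : ℂ) else 0 := by
  split_ifs with hy
  · subst hy
    have hb : commutator P = ⊥ := commutator_eq_bot (G := P)
    have hc : Nat.card (P →* ℂˣ) = Nat.card P := by
      rw [Chars.card_monoidHom_units, hb, Subgroup.index_bot]
    simp [← Nat.card_eq_fintype_card, hc]
  · obtain ⟨l, hl⟩ := Chars.exists_linChar_ne_one (G := P) (g := y) (by
      rw [commutator_eq_bot (G := P), Subgroup.mem_bot]; exact hy)
    have h := Equiv.sum_comp (Equiv.mulLeft l) fun ψ : P →* ℂˣ => (ψ y : ℂ)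
    simp only [Equiv.coe_mulLeft, MonoidHom.mul_apply, Units.val_mul, ← Finset.mul_sum] at h
    have : ((l y : ℂ) - 1) * ∑ ψ : P →* ℂˣ, (ψ y : ℂ) = 0 := by rw [sub_mul, one_mul, h, sub_self]
    exact (mul_eq_zero.1 this).resolve_left (sub_ne_zero.2 fun e => hl (Units.ext e))

variable [IsMulCommutative P]

theorem sum_eta [Fintype (Orb A)] [DecidableEq P] (hA : FPF A) (y : P) :
    ∑ i : Orb A, eta A i y = (if y = 1 then (Fintype.card P : ℂ) else 0) - 1 := by
  classical
  letI := Fintype.ofFinite (P →* ℂˣ)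
  rw [← sum_linChar_eq y, ← Finset.add_sum_erase _ _ (Finset.mem_univ (1 : P →* ℂˣ)),
    Finset.sum_subtype (Finset.univ.erase 1) (p := fun ψ => ψ ≠ 1) (by simp)
      (fun ψ : P →* ℂˣ => (ψ y : ℂ)),
    ← (Equiv.ofBijective _ (twist_rep_bijective hA)).sum_comp, Fintype.sum_prod_type]
  simp [eta]

omit [IsMulCommutative P] in
/-- The orbit sums over all elements vanish. -/
theorem sum_eta_apply (i : Orb A) : ∑ y : P, eta A i y = 0 := by
  classical
  simp only [eta]
  rw [Finset.sum_comm]
  refine Finset.sum_eq_zero fun a _ => ?_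
  refine (Fintype.sum_equiv (a : MulAut P).toEquiv _ (fun y => (Orb.rep A i y : ℂ)) fun y => rfl).trans ?_
  have := sum_mul_inv (Orb.rep A i) (1 : P →* ℂˣ)
  rw [if_neg (Orb.rep_ne_one A i)] at this
  simpa using this

end CfsgLib.ConjFunctor.CyclicPairs

namespace CfsgLib.ConjFunctor.CyclicPairs

universe v

variable {G : Type v} [Group G] [Fintype G] {p : ℕ} {P : Sylow p G} [IsMulCommutative P]
  [Fintype (P : Subgroup G)]

/-- The multiplicities of linear characters on `P` are natural numbers. -/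
theorem exists_natMult (χ : IrrCharacter G) :
    ∃ c : ((P : Subgroup G) →* ℂˣ) → ℕ, ∀ ψ, (Fintype.card (P : Subgroup G) : ℂ) * (c ψ : ℂ) =
      ∑ y : (P : Subgroup G), (χ : G → ℂ) y * (ψ y⁻¹ : ℂ) := by
  classical
  letI := Fintype.ofFinite ((P : Subgroup G) →* ℂˣ)
  obtain ⟨n, -, hn, -⟩ := Chars.exists_restrict_coeff χ (P : Subgroup G)
  have hb : Function.Bijective (Chars.linChar (G := (P : Subgroup G))) :=
    ⟨Chars.linChar_injective, fun θ => Chars.exists_linChar_eq θ
      (Chars.map_one_eq_one_of_isMulCommutative θ)⟩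
  have hexp : ∀ y : (P : Subgroup G),
      (χ : G → ℂ) y = ∑ ψ : (P : Subgroup G) →* ℂˣ, (n (Chars.linChar ψ) : ℂ) * (ψ y : ℂ) := by
    intro y
    refine (congrFun hn y).trans ?_
    rw [Finset.sum_apply]
    refine (Fintype.sum_bijective _ hb _ _ fun ψ => ?_).symm
    simp
  refine ⟨fun ψ => n (Chars.linChar ψ), fun ψ => ?_⟩
  simp only [hexp, Finset.sum_mul, mul_assoc]
  rw [Finset.sum_comm, Finset.sum_congr rfl fun φ _ => by rw [← Finset.mul_sum, sum_mul_inv]]
  simp [mul_comm]

end CfsgLib.ConjFunctor.CyclicPairs
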