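import Cfsg.Agent.ConjFunctor.CyclicPairs.Counting

/-!
The coherent family makes the structure constants contradictory.
-/

set_option autoImplicit false
open Cfsg CfsgLib
open CfsgLib.Blocks CfsgLib.Blocks.AbelianFrobenius

namespace CfsgLib.ConjFunctor.CyclicPairs

universe u

variable {G : Type u} [Group G] [Fintype G]

theorem apply_ne_map_one [IsSimpleGroup G] {χ : IrrCharacter G} (hχ : χ ≠ Chars.oneChar G)
    {g : G} (hg : g ≠ 1) : (χ : G → ℂ) g ≠ (χ : G → ℂ) 1 := by
  intro h
  have hmem : g ∈ Chars.charKer (χ : G → ℂ) :=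
    (Chars.mem_charKer_iff (Chars.isCharacter_coe χ)).2 h
  have htop : Chars.charKer (χ : G → ℂ) = ⊤ :=
    (Chars.instNormalCharKer χ).eq_bot_or_eq_top.resolve_left fun hb => hg (by simpa [hb] using hmem)
  have h0 := Chars.sum_mul_map_inv χ (Chars.oneChar G)
  rw [if_neg hχ, Finset.sum_congr rfl fun a _ => by
    rw [Chars.oneChar_apply, mul_one, Chars.map_eq_map_one_of_mem_charKer
      (htop.symm ▸ Subgroup.mem_top a : a ∈ Chars.charKer (χ : G → ℂ))]] at h0
  rw [Finset.sum_const, Finset.card_univ, nsmul_eq_mul] at h0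
  rcases mul_eq_zero.1 h0 with h1 | h1
  · exact Fintype.card_ne_zero (Nat.cast_eq_zero.1 h1)
  · exact Chars.map_one_ne_zero χ h1

/-- A value on a non-identity element that is an integer is smaller than the degree. -/
theorem intVal_lt_degree [IsSimpleGroup G] {χ : IrrCharacter G} (hχ : χ ≠ Chars.oneChar G)
    {g : G} (hg : g ≠ 1) {d : ℤ} (hd : (χ : G → ℂ) g = (d : ℂ)) :
    (d : ℝ) < (charDegree (χ : G → ℂ) : ℝ) := by
  have h := Chars.norm_apply_le (Chars.isCharacter_coe χ) g
  rw [hd, ← Chars.coe_charDegree, Complex.norm_intCast, Complex.norm_natCast] at h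
  refine lt_of_le_of_ne ((le_abs_self _).trans h) fun e => apply_ne_map_one hχ hg ?_
  rw [hd, ← Chars.coe_charDegree]
  exact_mod_cast congrArg (fun r : ℝ => (r : ℂ)) e

variable {p : ℕ} [Fact p.Prime] {M : Ideal AlgInt} {P : Sylow p G}
  [IsMulCommutative P]

open scoped Classical in
set_option maxHeartbeats 1000000 in
theorem not_pairCond_of_family [IsSimpleGroup G] (hM : IsPModular p M)
    (hP : IsCyclic (P : Subgroup G)) (hfrob : Frob P)
    (he2 : 2 ≤ Nat.card (autP P)) (hep : Nat.card (autP P) + 1 ≤ p)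
    (hm : Nat.card (autP P) + 1 < Nat.card (P : Subgroup G))
    {x : (P : Subgroup G)} (hx : orderOf (x : G) = p) : ¬ PairCond p (x : G) := by
  intro hpc
  have := isMaximal_of_isPModular hM
  obtain ⟨d, δ, d₀, ζ, hδ, hinj, hζB, -, hone, hd, hζv, hζreg, hcnt, hnorm, -⟩ :=
    exists_family hM hfrob hm
  letI := Fintype.ofFinite (P : Subgroup G)
  haveI := Fintype.ofFinite (autP P)
  haveI := Fintype.ofFinite (Orb (autP P))
  have hfpf := fpf_autP hfrob
  have hp := (Fact.out : p.Prime)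
  have hx1 : x ≠ 1 := by
    rintro rfl
    rw [Subgroup.coe_one, orderOf_one] at hx
    exact hp.ne_one hx.symm
  have hxi1 : x⁻¹ ≠ 1 := inv_ne_one.2 hx1
  set q := Nat.card (P : Subgroup G) with hq
  set e := Nat.card (autP P) with he
  set t := Nat.card (Orb (autP P)) with ht
  haveI : Nonempty (Orb (autP P)) := by
    refine (Nat.card_pos_iff.1 (Nat.pos_of_ne_zero fun h0 : Nat.card (Orb (autP P)) = 0 => ?_)).1
    rw [← ht] at h0
    rw [h0, zero_mul] at hcnt
    omega
  obtain ⟨i₀⟩ := (inferInstance : Nonempty (Orb (autP P)))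
  have hηfin : ∀ i (y : (P : Subgroup G)),
      (∑ᶠ a : autP P, (Orb.rep (autP P) i ((a : MulAut (P : Subgroup G)) y) : ℂ)) =
        eta (autP P) i y := fun i y => finsum_eq_sum_of_fintype _
  have hζval : ∀ i, ∀ y : (P : Subgroup G), y ≠ 1 →
      (ζ i : G → ℂ) y = (d₀ : ℂ) + (δ : ℂ) * eta (autP P) i y := fun i y hy => by
    rw [hζv i y (ne_one_of_ne hy), hηfin]
  set f₀ : ℕ := charDegree (ζ i₀ : G → ℂ) with hf₀
  have hζone : ∀ i, (ζ i : G → ℂ) 1 = (f₀ : ℂ) := fun i => by
    rw [hζreg i i₀ 1 (by simp [hp.ne_one]), ← Chars.coe_charDegree]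
  set R : Finset (IrrCharacter G) := (block G M \ Finset.univ.image ζ).erase (Chars.oneChar G)
    with hR
  have hRmem : ∀ χ ∈ R, χ ∈ principalBlock M G ∧ χ ∉ Set.range ζ ∧ χ ≠ Chars.oneChar G := by
    intro χ hχ
    simp only [hR, Finset.mem_erase, Finset.mem_sdiff, mem_block, Finset.mem_image,
      Finset.mem_univ, true_and] at hχ
    exact ⟨hχ.2.1, fun ⟨i, hi⟩ => hχ.2.2 ⟨i, hi⟩, hχ.1⟩
  have hRval : ∀ χ ∈ R, ∀ y : (P : Subgroup G), y ≠ 1 → (χ : G → ℂ) y = (d χ : ℂ) :=
    fun χ hχ y hy => (hd χ (hRmem χ hχ).1 (hRmem χ hχ).2.1).2 y (ne_one_of_ne hy)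
  have honeB : Chars.oneChar G ∈ block G M \ Finset.univ.image ζ := by
    simp only [Finset.mem_sdiff, mem_block, Finset.mem_image, Finset.mem_univ, true_and]
    exact ⟨oneChar_mem_principalBlock, fun ⟨i, hi⟩ => hone ⟨i, hi⟩⟩
  have hsplit : ∀ F : IrrCharacter G → ℂ, ∑ χ ∈ block G M, F χ =
      F (Chars.oneChar G) + (∑ χ ∈ R, F χ) + ∑ i, F (ζ i) := by
    intro F
    rw [hR, Finset.add_sum_erase _ _ honeB, ← Finset.sum_image (g := ζ) fun a _ b _ h => hinj h]
    refine (Finset.sum_sdiff ?_).symm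
    intro χ hχ
    obtain ⟨i, -, rfl⟩ := Finset.mem_image.1 hχ
    exact mem_block.2 (hζB i)
  have hdone : d (Chars.oneChar G) = 1 := by
    have h := (hd _ oneChar_mem_principalBlock hone).2 x (ne_one_of_ne hx1)
    rw [Chars.oneChar_apply] at h
    exact_mod_cast h.symm
  -- the norm
  set S₀ : ℤ := (d₀ - δ) ^ 2 + ((t : ℤ) - 1) * d₀ ^ 2 with hS₀
  have hnorm' : S₀ + ∑ χ ∈ R, d χ ^ 2 = (e : ℤ) := by
    have hset : principalBlock M G \ Set.range ζ =
        ((block G M \ Finset.univ.image ζ : Finset (IrrCharacter G)) : Set (IrrCharacter G)) := by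
      ext χ
      simp only [Set.mem_diff, Set.mem_range, Finset.coe_sdiff, Finset.coe_image, Finset.coe_univ,
        Set.image_univ, Finset.mem_coe, mem_block]
    rw [hset, finsum_mem_coe_finset, ← Finset.add_sum_erase _ _ honeB, ← hR, hdone] at hnorm
    linarith
  have hcntR : (t : ℝ) * e + 1 = (q : ℝ) := by exact_mod_cast hcnt
  have ht2 : 2 ≤ t := by
    by_contra h
    have : t * e ≤ 1 * e := Nat.mul_le_mul_right _ (by omega)
    omega
  have hδ2 : δ ^ 2 = 1 := by rcases hδ with rfl | rfl <;> rfl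
  have hS₀1 : 1 ≤ S₀ := by
    rw [hS₀]
    by_cases h0 : d₀ = 0
    · rw [h0]; simp [hδ2]
    · have h1 : (1 : ℤ) ≤ d₀ ^ 2 := by nlinarith [Int.one_le_abs h0, sq_abs d₀]
      have h2 : (1 : ℤ) ≤ (t : ℤ) - 1 := by omega
      nlinarith [sq_nonneg (d₀ - δ)]
  -- the sum `s`
  set s : ℝ := ∑ χ ∈ R, (d χ : ℝ) ^ 3 / (charDegree (χ : G → ℂ) : ℝ) with hs
  have hs_lt : s < (e : ℝ) - 1 := by
    have hD : ((∑ χ ∈ R, d χ ^ 2 : ℤ) : ℝ) ≤ (e : ℝ) - 1 := by
      have : (∑ χ ∈ R, d χ ^ 2 : ℤ) ≤ (e : ℤ) - 1 := by linarith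
      exact_mod_cast this
    push_cast at hD
    rcases R.eq_empty_or_nonempty with hempty | hne
    · have : (2 : ℝ) ≤ e := by exact_mod_cast he2
      rw [hs, hempty, Finset.sum_empty]
      linarith
    · refine lt_of_lt_of_le (Finset.sum_lt_sum_of_nonempty hne fun χ hχ => ?_) hD
      have hlt := intVal_lt_degree (hRmem χ hχ).2.2 (ne_one_of_ne hx1) (hRval χ hχ x hx1)
      have hpos : (0 : ℝ) < (charDegree (χ : G → ℂ) : ℝ) := by
        exact_mod_cast Chars.charDegree_pos χ
      have hd0 : (d χ : ℝ) ≠ 0 := by exact_mod_cast (hd χ (hRmem χ hχ).1 (hRmem χ hχ).2.1).1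
      have hsq : (0 : ℝ) < (d χ : ℝ) ^ 2 := by positivity
      rw [div_lt_iff₀ hpos]
      nlinarith [mul_lt_mul_of_pos_left hlt hsq]
  -- orbit sums
  have hoff : ((offOne (P := P)).card : ℂ) = (q : ℂ) - 1 := by
    rw [hq, ← card_offOne (P := P)]; push_cast; ring
  have hoe : (offOne (P := P)) = Finset.univ.erase 1 := by
    ext y; simp [mem_offOne]
  have hηoff : ∀ i, ∑ y ∈ offOne (P := P), eta (autP P) i y⁻¹ = -(e : ℂ) := by
    intro i
    have h := sum_eta_apply (autP P) i
    rw [← Fintype.sum_equiv (Equiv.inv (P : Subgroup G)) (fun y => eta (autP P) i y⁻¹) _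
      fun y => rfl, ← Finset.add_sum_erase _ _ (Finset.mem_univ (1 : (P : Subgroup G))),
      inv_one, eta_one, ← Nat.card_eq_fintype_card, ← he] at h
    rw [hoe]
    linear_combination h
  have hinvval : ∀ χ : IrrCharacter G, ∀ y : (P : Subgroup G),
      (χ : G → ℂ) (y : G)⁻¹ = (χ : G → ℂ) ((y⁻¹ : (P : Subgroup G)) : G) := fun χ y => rfl
  have hwR : ∀ χ ∈ R, colWeight (P := P) χ = (d χ : ℂ) * ((q : ℂ) - 1) := by
    intro χ hχ
    rw [colWeight, Finset.sum_congr rfl fun y hy => by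
      rw [hinvval, hRval χ hχ _ (inv_ne_one.2 (mem_offOne.1 hy))], Finset.sum_const, nsmul_eq_mul,
      hoff]
    ring
  have hwone : colWeight (P := P) (Chars.oneChar G) = (q : ℂ) - 1 := by
    rw [colWeight, Finset.sum_congr rfl fun y _ => Chars.oneChar_apply _, Finset.sum_const,
      nsmul_eq_mul, hoff, mul_one]
  have hwζ : ∀ i, colWeight (P := P) (ζ i) = ((q : ℂ) - 1) * d₀ - (δ : ℂ) * e := by
    intro i
    rw [colWeight, Finset.sum_congr rfl fun y hy => by
      rw [hinvval, hζval i _ (inv_ne_one.2 (mem_offOne.1 hy))], Finset.sum_add_distrib,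
      Finset.sum_const, nsmul_eq_mul, hoff, ← Finset.mul_sum, hηoff]
    ring
  -- the product sums over the family
  have hE : ∀ y : (P : Subgroup G), y ≠ 1 → ∀ n : ℕ,
      ((Finset.univ.filter fun b : autP P => x * (b : MulAut (P : Subgroup G)) y = 1).card = n) →
      ∑ i, (ζ i : G → ℂ) x * (ζ i : G → ℂ) y = (S₀ : ℂ) - 1 + (n : ℂ) * q - e := by
    intro y hy n hn
    have hprod : ∑ i, eta (autP P) i x * eta (autP P) i y = (n : ℂ) * q - e := by
      rw [Finset.sum_congr rfl fun i _ => eta_mul (autP P) i x y, Finset.sum_comm,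
        Finset.sum_congr rfl fun b _ => sum_eta (autP P) hfpf _, Finset.sum_sub_distrib,
        ← Finset.sum_filter, Finset.sum_const, Finset.sum_const, hn, Finset.card_univ,
        ← Nat.card_eq_fintype_card, ← Nat.card_eq_fintype_card, nsmul_eq_mul, nsmul_eq_mul,
        mul_one]
    have hexp : ∀ i, (ζ i : G → ℂ) x * (ζ i : G → ℂ) y = (d₀ : ℂ) ^ 2 +
        (d₀ : ℂ) * δ * (eta (autP P) i x + eta (autP P) i y) +
          eta (autP P) i x * eta (autP P) i y := by
      intro i
      rw [hζval i x hx1, hζval i y hy]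
      have : (δ : ℂ) * δ = 1 := by exact_mod_cast (sq δ).symm.trans hδ2
      linear_combination (eta (autP P) i x * eta (autP P) i y) * this
    rw [Finset.sum_congr rfl fun i _ => hexp i, Finset.sum_add_distrib, Finset.sum_add_distrib,
      Finset.sum_const, ← Finset.mul_sum, Finset.sum_add_distrib, sum_eta (autP P) hfpf,
      sum_eta (autP P) hfpf, if_neg hx1, if_neg hy, hprod, nsmul_eq_mul, Finset.card_univ,
      ← Nat.card_eq_fintype_card, ← ht, hS₀]
    have hδC : (δ : ℂ) ^ 2 = 1 := by exact_mod_cast hδ2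
    push_cast
    linear_combination -hδC
  -- the structure constant in terms of the family
  have hV : ∀ y : (P : Subgroup G), y ≠ 1 → singCoeff M P (x : G) (y : G) =
      (((q : ℝ) - 1) * (1 + s) : ℝ) + (((q : ℂ) - 1) * d₀ - (δ : ℂ) * e) / (f₀ : ℂ) *
        ∑ i, (ζ i : G → ℂ) x * (ζ i : G → ℂ) y := by
    intro y hy
    rw [singCoeff, hsplit, Finset.mul_sum]
    congr 1
    · rw [Chars.oneChar_apply, Chars.oneChar_apply, Chars.oneChar_apply, hwone,
        Finset.sum_congr rfl fun χ hχ => by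
          rw [hRval χ hχ x hx1, hRval χ hχ y hy, hwR χ hχ, ← Chars.coe_charDegree], hs]
      push_cast
      rw [mul_add, Finset.mul_sum]
      simp only [one_mul, mul_one, div_one]
      congr 1
      exact Finset.sum_congr rfl fun χ _ => by ring
    · refine Finset.sum_congr rfl fun i _ => ?_
      rw [hwζ, hζone]
      ring
  have hf₀pos : (0 : ℝ) < f₀ := by exact_mod_cast Chars.charDegree_pos _
  by_cases hqp : q = p
  · -- an element of `P` of order `p` not conjugate to `x`
    obtain ⟨z, hz1, hz⟩ : ∃ z : (P : Subgroup G), z ≠ 1 ∧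
        ∀ a : autP P, (a : MulAut (P : Subgroup G)) x ≠ z := by
      by_contra hcon
      push Not at hcon
      have hsub : offOne (P := P) ⊆
          Finset.univ.image fun a : autP P => (a : MulAut (P : Subgroup G)) x := by
        intro u hu
        obtain ⟨a, ha⟩ := hcon u (mem_offOne.1 hu)
        exact Finset.mem_image.2 ⟨a, Finset.mem_univ _, ha⟩
      have h := (Finset.card_le_card hsub).trans Finset.card_image_le
      rw [Finset.card_univ, ← Nat.card_eq_fintype_card] at h
      have := card_offOne (P := P)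
      omega
    have hmem : z ∈ Subgroup.zpowers x := by
      haveI := hP
      refine mem_zpowers_of_cyclic (p := p) (by rw [← Subgroup.orderOf_coe]; exact hx) ?_
      have hz' : z ^ q = 1 := pow_card_eq_one'
      rwa [hqp] at hz'
    obtain ⟨j, hj⟩ := mem_powers_iff_mem_zpowers.2 hmem
    simp only at hj
    subst hj
    have hzero : (Finset.univ.filter fun b : autP P =>
        x * (b : MulAut (P : Subgroup G)) (x ^ j)⁻¹ = 1).card = 0 := by
      rw [Finset.card_eq_zero, Finset.filter_eq_empty_iff]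
      intro b _ hb
      rw [map_inv, mul_inv_eq_one] at hb
      apply hz b⁻¹
      conv_lhs => rw [hb]
      rw [Subgroup.coe_inv, MulAut.inv_apply, MulEquiv.symm_apply_apply]
    have h := singCoeff_of_not_aut hM hfrob hx hpc j hz
    rw [show ((x : G) ^ j)⁻¹ = (((x ^ j)⁻¹ : (P : Subgroup G)) : G) from rfl,
      hV _ (inv_ne_one.2 hz1), hE _ (inv_ne_one.2 hz1) 0 hzero, ← hq, ← he] at h
    have hreal : ((q : ℝ) - 1) * (1 + s) + (((q : ℝ) - 1) * d₀ - (δ : ℝ) * e) / f₀ *
        ((S₀ : ℝ) - 1 - e) = (q : ℝ) * e := by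
      apply Complex.ofReal_injective
      push_cast at h ⊢
      linear_combination h
    -- non-negativity of the multiplicity of the trivial character
    obtain ⟨c, hc⟩ := exists_natMult (P := P) (ζ i₀)
    have hc1 := hc 1
    simp only [MonoidHom.one_apply, Units.val_one, mul_one] at hc1
    rw [← Fintype.sum_equiv (Equiv.inv (P : Subgroup G)) (fun y : (P : Subgroup G) =>
      (ζ i₀ : G → ℂ) ((y⁻¹ : (P : Subgroup G)) : G)) _ fun y => rfl,
      ← Finset.add_sum_erase _ _ (Finset.mem_univ (1 : (P : Subgroup G))), ← Finset.filter_ne',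
      inv_one, Subgroup.coe_one, hζone] at hc1
    have hnn : (0 : ℝ) ≤ (f₀ : ℝ) + (((q : ℝ) - 1) * d₀ - (δ : ℝ) * e) := by
      have : (f₀ : ℝ) + (((q : ℝ) - 1) * d₀ - (δ : ℝ) * e) = (q : ℝ) * (c 1 : ℝ) := by
        apply Complex.ofReal_injective
        push_cast
        rw [hq, Nat.card_eq_fintype_card, hc1, ← Nat.card_eq_fintype_card, ← hq, ← hwζ i₀]
        rfl
      rw [this]; positivity
    have heR : (2 : ℝ) ≤ e := by exact_mod_cast he2
    have ht0 : (2 : ℝ) ≤ t := by exact_mod_cast ht2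
    have hSR : (1 : ℝ) ≤ S₀ := by exact_mod_cast hS₀1
    have hSe : (S₀ : ℝ) ≤ e := by
      have : S₀ ≤ (e : ℤ) := by
        have : 0 ≤ ∑ χ ∈ R, d χ ^ 2 := Finset.sum_nonneg fun χ _ => sq_nonneg _
        linarith
      exact_mod_cast this
    set r : ℝ := (δ : ℝ) - t * d₀ with hr
    have h2 : (t : ℝ) * (1 + s) + r * (e + 1 - S₀) / f₀ = q := by
      apply mul_left_cancel₀ (show (e : ℝ) ≠ 0 by linarith)
      rw [← hcntR] at hreal ⊢
      rw [hr]
      linear_combination hreal
    have hr' : r * e ≤ f₀ := by rw [← hcntR] at hnn; rw [hr]; linarith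
    have hQ : r * (e + 1 - S₀) / f₀ ≤ 1 := by
      rw [div_le_one hf₀pos]
      rcases le_or_gt r 0 with h0 | h0
      · nlinarith [mul_nonpos_of_nonpos_of_nonneg h0 (by linarith : (0 : ℝ) ≤ e + 1 - S₀)]
      · nlinarith [mul_le_mul_of_nonneg_left (by linarith : (e : ℝ) + 1 - S₀ ≤ e) h0.le]
    have h3 : (0 : ℝ) < t * (e - 1 - s) := mul_pos (by linarith) (by linarith)
    nlinarith
  · -- `p ^ 2` divides the order of `P`
    obtain ⟨n, hn⟩ := IsPGroup.iff_card.1 P.2
    rw [← hq] at hn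
    have hn2 : 2 ≤ n := by
      by_contra hcon
      interval_cases n
      · rw [pow_zero] at hn; omega
      · exact hqp (by rw [hn, pow_one])
    have hp2 : p ^ 2 ∣ q := hn ▸ pow_dvd_pow p hn2
    have hd0 : d₀ = 0 := by
      by_contra h0
      have h1 : (1 : ℤ) ≤ d₀ ^ 2 := by nlinarith [Int.one_le_abs h0, sq_abs d₀]
      have h2 : S₀ ≤ (e : ℤ) := by
        have : 0 ≤ ∑ χ ∈ R, d χ ^ 2 := Finset.sum_nonneg fun χ _ => sq_nonneg _
        linarith
      have ht3 : e + 2 ≤ t := by
        by_contra hcon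
        have h3 : t * e ≤ (e + 1) * e := Nat.mul_le_mul_right _ (by omega)
        have h4 : (e + 1) ^ 2 ≤ q :=
          (Nat.pow_le_pow_left hep 2).trans (Nat.le_of_dvd (by omega) hp2)
        nlinarith
      have h5 : (e : ℤ) + 1 ≤ (t : ℤ) - 1 := by omega
      rw [hS₀] at h2
      nlinarith [sq_nonneg (d₀ - δ), mul_le_mul h5 h1 (by norm_num) (by omega)]
    obtain ⟨u, hu⟩ : ∃ u : (P : Subgroup G), orderOf u = q := by
      haveI := hP
      obtain ⟨u, hu⟩ := IsCyclic.exists_ofOrder_eq_natCard (α := (P : Subgroup G))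
      exact ⟨u, hu⟩
    have hu1 : u ≠ 1 := by
      rintro rfl
      rw [orderOf_one] at hu
      omega
    have hS₀eq : S₀ = 1 := by rw [hS₀, hd0]; simp [hδ2]
    have hone' : (Finset.univ.filter fun b : autP P =>
        x * (b : MulAut (P : Subgroup G)) x⁻¹ = 1).card = 1 := by
      rw [Finset.card_eq_one]
      refine ⟨1, ?_⟩
      ext b
      simp only [Finset.mem_filter, Finset.mem_univ, true_and, Finset.mem_singleton, map_inv,
        mul_inv_eq_one]
      refine ⟨fun hb => aut_apply_injective hfrob hx1 ?_, fun hb => by rw [hb]; rfl⟩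
      exact hb.symm
    have h1 := singCoeff_self hM hfrob hP hx hpc
    rw [show ((x : G))⁻¹ = ((x⁻¹ : (P : Subgroup G)) : G) from rfl, hV _ hxi1,
      hE _ hxi1 1 hone', hd0, hS₀eq, ← hq, ← he] at h1
    -- the section of the generator
    have h2 := sum_section_eq_zero hM hfrob (u := u) hpc (by rw [Subgroup.orderOf_coe, hu]; exact hp2)
    have htriple : ∀ i, (ζ i : G → ℂ) x * (ζ i : G → ℂ) (x : G)⁻¹ * (ζ i : G → ℂ) (u : G)⁻¹ =
        (δ : ℂ) * ∑ c : autP P, ∑ b : autP P,
          eta (autP P) i (u⁻¹ * (b : MulAut (P : Subgroup G)) x *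
            (c : MulAut (P : Subgroup G)) x⁻¹) := by
      intro i
      rw [hinvval, hinvval, hζval i x hx1, hζval i _ hxi1, hζval i _ (inv_ne_one.2 hu1), hd0]
      rw [Finset.sum_congr rfl fun c _ => Finset.sum_congr rfl fun b _ => rfl, Finset.sum_comm,
        Finset.sum_congr rfl fun b _ => (eta_mul (autP P) i _ _).symm, ← Finset.sum_mul,
        ← eta_mul]
      have : (δ : ℂ) * δ = 1 := by exact_mod_cast (sq δ).symm.trans hδ2
      push_cast
      linear_combination ((δ : ℂ) * eta (autP P) i x * eta (autP P) i x⁻¹ *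
        eta (autP P) i u⁻¹) * this
    have hne : ∀ b c : autP P, u⁻¹ * (b : MulAut (P : Subgroup G)) x *
        (c : MulAut (P : Subgroup G)) x⁻¹ ≠ 1 := by
      intro b c hbc
      have hxp : orderOf x = p := by rw [← Subgroup.orderOf_coe]; exact hx
      have hxp' : x ^ p = 1 := orderOf_dvd_iff_pow_eq_one.1 hxp.dvd
      have hb' : ((b : MulAut (P : Subgroup G)) x) ^ p = 1 := by rw [← map_pow, hxp', map_one]
      have hc' : ((c : MulAut (P : Subgroup G)) x⁻¹) ^ p = 1 := by
        rw [← map_pow, inv_pow, hxp', inv_one, map_one]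
      have hu' : u⁻¹ ^ p = 1 := by
        have h3 := congrArg (fun z : (P : Subgroup G) => z ^ p) hbc
        simp only [Commute.mul_pow (mul_comm' _ _), one_pow, hb', hc', mul_one] at h3
        exact h3
      rw [inv_pow, inv_eq_one, ← orderOf_dvd_iff_pow_eq_one, hu] at hu'
      have := Nat.le_of_dvd hp.pos (hp2.trans hu')
      nlinarith [hp.two_le]
    have htsum : ∑ i, (ζ i : G → ℂ) x * (ζ i : G → ℂ) (x : G)⁻¹ * (ζ i : G → ℂ) (u : G)⁻¹ =
        -((δ : ℂ) * (e : ℂ) ^ 2) := by
      rw [Finset.sum_congr rfl fun i _ => htriple i, ← Finset.mul_sum, Finset.sum_comm,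
        Finset.sum_congr rfl fun c _ => Finset.sum_comm]
      rw [Finset.sum_congr rfl fun c _ => Finset.sum_congr rfl fun b _ =>
        (sum_eta (autP P) hfpf _).trans (by rw [if_neg (hne b c)])]
      simp only [Finset.sum_const, Finset.card_univ, ← Nat.card_eq_fintype_card, ← he,
        nsmul_eq_mul]
      ring
    rw [hsplit, Chars.oneChar_apply, Chars.oneChar_apply, Chars.oneChar_apply,
      Chars.oneChar_apply, Finset.sum_congr rfl fun χ hχ => by
        rw [hinvval χ x, hinvval χ u, hRval χ hχ x hx1, hRval χ hχ _ hxi1,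
          hRval χ hχ _ (inv_ne_one.2 hu1), ← Chars.coe_charDegree],
      Finset.sum_congr (s₁ := (Finset.univ : Finset (Orb (autP P)))) rfl fun i _ => by
        rw [hζone i]] at h2
    rw [← Finset.sum_div, htsum] at h2
    set B : ℝ := (δ : ℝ) / f₀ with hB
    have e1 : ((q : ℝ) - 1) * (1 + s) - (e : ℝ) * ((q : ℝ) - e) * B = q * ((e : ℝ) - 1) := by
      apply Complex.ofReal_injective
      rw [hB]
      push_cast at h1 ⊢
      linear_combination h1
    have e2 : 1 + s - (e : ℝ) ^ 2 * B = 0 := by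
      apply Complex.ofReal_injective
      rw [hB, hs]
      push_cast
      simp only [one_mul, div_one] at h2
      rw [Finset.sum_congr rfl fun χ (_ : χ ∈ R) =>
        show (d χ : ℂ) * (d χ : ℂ) * (d χ : ℂ) / (charDegree (χ : G → ℂ) : ℂ) =
          (d χ : ℂ) ^ 3 / (charDegree (χ : G → ℂ) : ℂ) by ring] at h2
      linear_combination h2
    have he0 : (2 : ℝ) ≤ e := by exact_mod_cast he2
    have hq0 : (0 : ℝ) < q := by
      have : 0 < q := by omega
      exact_mod_cast this
    have key : (1 + s - (e : ℝ)) * ((q : ℝ) * ((e : ℝ) - 1)) = 0 := by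
      linear_combination (e : ℝ) * e1 - ((q : ℝ) - e) * e2
    rcases mul_eq_zero.1 key with h | h
    · linarith
    · nlinarith

end CfsgLib.ConjFunctor.CyclicPairs
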