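import Cfsg.Agent.ConjFunctor.CyclicPairs.Family

/-!
Groups with cyclic Sylow `p`-subgroups in which every two elements of order `p` generate a
`p`-solvable subgroup are `p`-solvable.
-/

set_option autoImplicit false
open Cfsg CfsgLib
open CfsgLib.Blocks CfsgLib.Blocks.AbelianFrobenius

namespace CfsgLib.ConjFunctor.CyclicPairs

universe u

variable {G : Type u} [Group G] [Fintype G] {p : ℕ} [Fact p.Prime] {M : Ideal AlgInt}
  {P : Sylow p G} [IsMulCommutative P]

open scoped Classical in
set_option maxHeartbeats 1000000 in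
theorem not_pairCond_of_transitive [IsSimpleGroup G] (hM : IsPModular p M)
    (hP : IsCyclic (P : Subgroup G)) (hfrob : Frob P) (he2 : 2 ≤ Nat.card (autP P))
    (hm : Nat.card (autP P) + 1 = Nat.card (P : Subgroup G))
    {x : (P : Subgroup G)} (hx : orderOf (x : G) = p) : ¬ PairCond p (x : G) := by
  intro hpc
  have := isMaximal_of_isPModular hM
  letI := Fintype.ofFinite (P : Subgroup G)
  haveI := Fintype.ofFinite (autP P)
  have hp := (Fact.out : p.Prime)
  have hx1 : x ≠ 1 := by
    rintro rfl
    rw [Subgroup.coe_one, orderOf_one] at hx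
    exact hp.ne_one hx.symm
  set q := Nat.card (P : Subgroup G) with hq
  set e := Nat.card (autP P) with he
  have hcard : (offOne (P := P)).card + 1 = q := card_offOne
  -- all non-identity elements of `P` are conjugate to `x`
  have himg : Finset.univ.image (fun a : autP P => (a : MulAut (P : Subgroup G)) x) =
      offOne (P := P) := by
    refine Finset.eq_of_subset_of_card_le (fun u hu => ?_) ?_
    · obtain ⟨a, -, rfl⟩ := Finset.mem_image.1 hu
      exact mem_offOne.2 fun h => hx1 ((MulEquiv.map_eq_one_iff _).1 h)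
    · rw [Finset.card_image_of_injective _ (aut_apply_injective hfrob hx1), Finset.card_univ,
        ← Nat.card_eq_fintype_card, ← he]
      omega
  have hconst : ∀ (χ : IrrCharacter G) (u : (P : Subgroup G)), u ≠ 1 →
      (χ : G → ℂ) u = (χ : G → ℂ) x := by
    intro χ u hu
    rw [← mem_offOne, ← himg] at hu
    obtain ⟨a, -, rfl⟩ := Finset.mem_image.1 hu
    obtain ⟨c, hc⟩ := isConj_iff.1 (isConj_aut_apply a x)
    rw [← hc]
    exact Chars.isClassFunction_coe χ x c
  have hconst' : ∀ (χ : IrrCharacter G) (u : (P : Subgroup G)), u ≠ 1 →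
      (χ : G → ℂ) (u : G)⁻¹ = (χ : G → ℂ) x := fun χ u hu =>
    (congrArg (χ : G → ℂ) (Subgroup.coe_inv _ u).symm).trans (hconst χ _ (inv_ne_one.2 hu))
  have hoe : (offOne (P := P)) = Finset.univ.erase 1 := by ext y; simp [mem_offOne]
  have hoffq : ((offOne (P := P)).card : ℂ) = (q : ℂ) - 1 := by
    rw [← hcard]; push_cast; ring
  obtain ⟨ψ, hψ⟩ : ∃ ψ : (P : Subgroup G) →* ℂˣ, ψ ≠ 1 := by
    obtain ⟨l, hl⟩ := Chars.exists_linChar_ne_one (G := (P : Subgroup G)) (g := x) (by
      rw [commutator_eq_bot (G := ↥(P : Subgroup G)), Subgroup.mem_bot]; exact hx1)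
    exact ⟨l, fun h => hl (by rw [h]; rfl)⟩
  choose c hc using fun χ : IrrCharacter G => exists_natMult (P := P) χ
  set d : IrrCharacter G → ℤ := fun χ => (c χ 1 : ℤ) - c χ ψ with hd
  have hsum1 : ∀ (χ : IrrCharacter G) (φ : (P : Subgroup G) →* ℂˣ),
      (q : ℂ) * (c χ φ : ℂ) = (χ : G → ℂ) 1 +
        (χ : G → ℂ) x * ((∑ y : (P : Subgroup G), (φ y⁻¹ : ℂ)) - 1) := by
    intro χ φ
    rw [hq, Nat.card_eq_fintype_card, hc, ← Finset.add_sum_erase _ _ (Finset.mem_univ (1 : (P : Subgroup G))),
      ← Finset.add_sum_erase _ (fun y : (P : Subgroup G) => (φ y⁻¹ : ℂ)) (Finset.mem_univ 1)]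
    simp only [inv_one, map_one, Units.val_one, mul_one, Subgroup.coe_one, add_sub_cancel_left]
    rw [Finset.mul_sum]
    congr 1
    exact Finset.sum_congr rfl fun y hy => by rw [hconst χ y (Finset.ne_of_mem_erase hy)]
  have hψ0 : ∑ y : (P : Subgroup G), (ψ y⁻¹ : ℂ) = 0 := by
    have := sum_mul_inv (1 : (P : Subgroup G) →* ℂˣ) ψ
    rw [if_neg hψ.symm] at this
    simpa using this
  have hone0 : ∑ y : (P : Subgroup G), ((1 : (P : Subgroup G) →* ℂˣ) y⁻¹ : ℂ) = (q : ℂ) := by
    simp [hq, Nat.card_eq_fintype_card]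
  have hq0 : (q : ℂ) ≠ 0 := Nat.cast_ne_zero.2 Nat.card_pos.ne'
  have hval : ∀ χ : IrrCharacter G, (χ : G → ℂ) x = (d χ : ℂ) := by
    intro χ
    apply mul_left_cancel₀ hq0
    have h1 := hsum1 χ 1
    have h2 := hsum1 χ ψ
    rw [hone0] at h1
    rw [hψ0] at h2
    simp only [hd]
    push_cast
    linear_combination -h1 + h2
  have hdeg : ∀ χ : IrrCharacter G,
      (charDegree (χ : G → ℂ) : ℝ) = (d χ : ℝ) + (q : ℝ) * (c χ ψ : ℝ) := by
    intro χ
    apply Complex.ofReal_injective
    have h2 := hsum1 χ ψ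
    rw [hψ0, hval, ← Chars.coe_charDegree] at h2
    push_cast
    linear_combination -h2
  set R := (block G M).erase (Chars.oneChar G) with hR
  have honeB : Chars.oneChar G ∈ block G M := mem_block.2 oneChar_mem_principalBlock
  have hdone : d (Chars.oneChar G) = 1 := by
    have h := hval (Chars.oneChar G)
    rw [Chars.oneChar_apply] at h
    exact_mod_cast h.symm
  -- the squared column
  have hnorm : ∑ χ ∈ R, d χ ^ 2 = (e : ℤ) := by
    have h := column_self hM hfrob (ne_one_of_ne hx1)
    rw [← block, Finset.sum_congr rfl fun χ _ => by rw [hconst' χ x hx1, hval χ],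
      ← Finset.add_sum_erase _ _ honeB, ← hR, hdone, ← hq, ← hm] at h
    have h' : ((∑ χ ∈ R, d χ ^ 2 : ℤ) : ℂ) = ((e : ℤ) : ℂ) := by
      push_cast at h ⊢
      rw [Finset.sum_congr rfl fun χ _ => sq (d χ : ℂ)]
      linear_combination h
    exact_mod_cast h'
  -- orthogonality of the column of `x` to the column of `1`
  obtain ⟨χ₀, hχ₀, hd₀⟩ : ∃ χ ∈ R, d χ < 0 := by
    by_contra hcon
    push Not at hcon
    have h := sum_mul_inv_eq_zero_of_regular_of_singular hM
      (isIntegralSet_block hM isPBlock_principalBlock) (x := (1 : G)) (y := (x : G))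
      (by simp [hp.ne_one]) (by rw [hx])
    rw [← block, Finset.sum_congr rfl fun χ _ => by
      rw [hconst' χ x hx1, hval χ, ← Chars.coe_charDegree],
      ← Finset.add_sum_erase _ _ honeB, ← hR, hdone] at h
    have h1 : charDegree ((Chars.oneChar G : IrrCharacter G) : G → ℂ) = 1 :=
      (Chars.charDegree_eq_one_iff _).2 (Chars.oneChar_apply 1)
    rw [h1] at h
    have h' : ((1 + ∑ χ ∈ R, (charDegree (χ : G → ℂ) : ℤ) * d χ : ℤ) : ℂ) = 0 := by
      push_cast at h ⊢
      linear_combination h
    have h'' : (1 + ∑ χ ∈ R, (charDegree (χ : G → ℂ) : ℤ) * d χ : ℤ) = 0 := by exact_mod_cast h'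
    have : 0 ≤ ∑ χ ∈ R, (charDegree (χ : G → ℂ) : ℤ) * d χ :=
      Finset.sum_nonneg fun χ hχ => mul_nonneg (by positivity) (hcon χ hχ)
    linarith
  set s : ℝ := ∑ χ ∈ R, (d χ : ℝ) ^ 3 / (charDegree (χ : G → ℂ) : ℝ) with hs
  have hbound : ∀ χ ∈ R, 3 * ((d χ : ℝ) ^ 3 / (charDegree (χ : G → ℂ) : ℝ)) ≤
      if χ = χ₀ then 0 else (d χ : ℝ) ^ 2 := by
    intro χ hχ
    have hpos : (0 : ℝ) < (charDegree (χ : G → ℂ) : ℝ) := by
      exact_mod_cast Chars.charDegree_pos χ
    rcases le_or_gt (d χ) 0 with h0 | h0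
    · have hle : (d χ : ℝ) ^ 3 / (charDegree (χ : G → ℂ) : ℝ) ≤ 0 := by
        refine div_nonpos_of_nonpos_of_nonneg ?_ hpos.le
        have : (d χ : ℝ) ≤ 0 := by exact_mod_cast h0
        nlinarith [sq_nonneg (d χ : ℝ)]
      split_ifs
      · linarith
      · nlinarith [sq_nonneg (d χ : ℝ)]
    · rw [if_neg fun h => by rw [h] at h0; omega]
      have hne : χ ≠ Chars.oneChar G := (Finset.mem_erase.1 hχ).1
      have hc1 : (1 : ℝ) ≤ (c χ ψ : ℝ) := by
        rw [Nat.one_le_cast, Nat.one_le_iff_ne_zero]
        intro hc0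
        have := intVal_lt_degree hne (ne_one_of_ne hx1) (hval χ)
        rw [hdeg χ, hc0] at this
        simp at this
      have hd2 : d χ ^ 2 ≤ (e : ℤ) := by
        rw [← hnorm]
        exact Finset.single_le_sum (fun φ _ => sq_nonneg (d φ)) hχ
      have hd3 : 2 * d χ ≤ (q : ℤ) := by
        have : (e : ℤ) + 1 = q := by exact_mod_cast hm
        nlinarith [sq_nonneg (d χ - 1)]
      have hd3' : 2 * (d χ : ℝ) ≤ (q : ℝ) := by exact_mod_cast hd3
      have hd0' : (0 : ℝ) < (d χ : ℝ) := by exact_mod_cast h0
      have hq' : (q : ℝ) ≤ (q : ℝ) * (c χ ψ : ℝ) := le_mul_of_one_le_right (by positivity) hc1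
      have hf : 3 * (d χ : ℝ) ≤ (charDegree (χ : G → ℂ) : ℝ) := by rw [hdeg χ]; linarith
      rw [← mul_div_assoc, div_le_iff₀ hpos]
      nlinarith [mul_le_mul_of_nonneg_left hf (sq_nonneg (d χ : ℝ))]
  have hs3 : 3 * s ≤ (e : ℝ) - 1 := by
    have h1 := Finset.sum_le_sum hbound
    rw [← Finset.mul_sum, ← hs] at h1
    refine h1.trans ?_
    rw [← Finset.add_sum_erase _ _ hχ₀, if_pos rfl, zero_add, Finset.sum_congr rfl fun χ hχ => by
      rw [if_neg (Finset.ne_of_mem_erase hχ)]]
    have h2 : d χ₀ ^ 2 + ∑ χ ∈ R.erase χ₀, d χ ^ 2 = (e : ℤ) := by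
      rw [Finset.add_sum_erase _ (fun φ => d φ ^ 2) hχ₀, hnorm]
    have h3 : ∑ χ ∈ R.erase χ₀, d χ ^ 2 ≤ (e : ℤ) - 1 := by nlinarith
    exact_mod_cast h3
  have h := singCoeff_self hM hfrob hP hx hpc
  have hw : ∀ χ : IrrCharacter G, colWeight (P := P) χ = ((q : ℂ) - 1) * (d χ : ℂ) := by
    intro χ
    rw [colWeight, Finset.sum_congr rfl fun u hu => by rw [hconst' χ u (mem_offOne.1 hu), hval],
      Finset.sum_const, nsmul_eq_mul, hoffq]
  rw [singCoeff, Finset.sum_congr rfl fun χ _ => by
    rw [hw χ, hconst' χ x hx1, hval χ, ← Chars.coe_charDegree],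
    ← Finset.add_sum_erase _ _ honeB, ← hR, hdone, ← hq, ← he] at h
  have h1 : charDegree ((Chars.oneChar G : IrrCharacter G) : G → ℂ) = 1 :=
    (Chars.charDegree_eq_one_iff _).2 (Chars.oneChar_apply 1)
  rw [h1] at h
  have hreal : ((q : ℝ) - 1) * (1 + s) = (q : ℝ) * ((e : ℝ) - 1) := by
    apply Complex.ofReal_injective
    rw [hs]
    push_cast at h ⊢
    rw [← h, mul_add, Finset.mul_sum]
    simp only [one_mul, mul_one, div_one]
    congr 1
    exact Finset.sum_congr rfl fun χ _ => by ring
  have hqe : (q : ℝ) = (e : ℝ) + 1 := by exact_mod_cast hm.symm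
  have he0 : (2 : ℝ) ≤ e := by exact_mod_cast he2
  rw [hqe] at hreal
  nlinarith

omit [IsMulCommutative P] in
/-- The heart of the matter: no non-abelian simple group satisfies the condition on pairs. -/
theorem not_pairs_of_isSimpleGroup [IsSimpleGroup G] (hP : IsCyclic (P : Subgroup G))
    (hdvd : p ∣ Nat.card G) (hnc : ¬ IsMulCommutative G)
    (h : ∀ x y : G, orderOf x = p → orderOf y = p →
      IsPSolvable p (Subgroup.closure ({x, y} : Set G))) : False := by
  classical
  haveI : IsMulCommutative (P : Subgroup G) := IsCyclic.isMulCommutative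
  letI := Fintype.ofFinite (P : Subgroup G)
  haveI := Fintype.ofFinite (autP P)
  obtain ⟨M, hM⟩ := exists_isPModular p (Fact.out : p.Prime)
  have hfrob := frob_of_isCyclic hP
  have hPne : (P : Subgroup G) ≠ ⊥ := by
    intro hb
    have := P.not_dvd_index
    rw [hb, Subgroup.index_bot] at this
    exact this hdvd
  haveI : Nontrivial (P : Subgroup G) := (Subgroup.nontrivial_iff_ne_bot _).2 hPne
  have hpP : p ∣ Nat.card (P : Subgroup G) := by
    obtain ⟨n, hn⟩ := IsPGroup.iff_card.1 P.2
    rw [hn]
    refine dvd_pow_self p ?_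
    rintro rfl
    exact (Finite.one_lt_card (α := (P : Subgroup G))).ne' (by simpa using hn)
  obtain ⟨x, hx⟩ := exists_prime_orderOf_dvd_card' (G := (P : Subgroup G)) p hpP
  have hxG : orderOf (x : G) = p := by rw [Subgroup.orderOf_coe, hx]
  have hx1 : x ≠ 1 := fun e => by
    rw [e, orderOf_one] at hx
    exact (Fact.out : p.Prime).ne_one hx.symm
  have hpc : PairCond p (x : G) := by
    intro g
    have hy : orderOf (g * x * g⁻¹) = p :=
      (MulEquiv.orderOf_eq (MulAut.conj g) (x : G)).trans hxG
    exact pair_structure P hP hxG hy (h _ _ hxG hy)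
  have he2 : 2 ≤ Nat.card (autP P) := by
    by_contra hlt
    have h1 : Nat.card (autP P) = 1 := by
      have := Nat.card_pos (α := autP P)
      omega
    rw [card_autP P, Subgroup.relIndex_eq_one] at h1
    obtain ⟨N, hNn, hNc, k, hk⟩ := Transfer.hasNormalPComplement_iff_exists.1
      (Transfer.hasNormalPComplement_of_normalizer_le_centralizer P h1)
    rcases hNn.eq_bot_or_eq_top with hN | hN
    · apply hnc
      rw [hN, Subgroup.index_bot] at hk
      haveI : Nontrivial G := ⟨⟨(x : G), 1, ne_one_of_ne hx1⟩⟩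
      have hcen : Subgroup.center G ≠ ⊥ := by
        have hn := IsPGroup.center_nontrivial (IsPGroup.of_card hk)
        exact (Subgroup.nontrivial_iff_ne_bot _).1 hn
      have htop := (Subgroup.Normal.eq_bot_or_eq_top
        (inferInstance : (Subgroup.center G).Normal)).resolve_left hcen
      exact ⟨⟨fun a b => (Subgroup.mem_center_iff.1 (htop.symm ▸ Subgroup.mem_top b :
        b ∈ Subgroup.center G) a)⟩⟩
    · rw [hN, Subgroup.card_top] at hNc
      exact (Fact.out : p.Prime).coprime_iff_not_dvd.1 hNc.symm hdvd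
  have hep : Nat.card (autP P) + 1 ≤ p := by
    have hsub : Finset.univ.image (fun a : autP P => (a : MulAut (P : Subgroup G)) x) ⊆
        (Finset.univ.filter fun z : (P : Subgroup G) => z ^ p = 1).erase 1 := by
      intro z hz
      obtain ⟨a, -, rfl⟩ := Finset.mem_image.1 hz
      refine Finset.mem_erase.2 ⟨fun h => hx1 ((MulEquiv.map_eq_one_iff _).1 h),
        Finset.mem_filter.2 ⟨Finset.mem_univ _, ?_⟩⟩
      rw [← map_pow, orderOf_dvd_iff_pow_eq_one.1 hx.dvd, map_one]
    have h1 := Finset.card_le_card hsub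
    rw [Finset.card_image_of_injective _ (aut_apply_injective hfrob hx1), Finset.card_univ,
      ← Nat.card_eq_fintype_card, Finset.card_erase_of_mem (by simp)] at h1
    haveI := hP
    have h2 := IsCyclic.card_pow_eq_one_le (α := (P : Subgroup G)) (Fact.out : p.Prime).pos
    have h3 := Nat.card_pos (α := autP P)
    omega
  rcases eq_or_lt_of_le (hep.trans (Nat.le_of_dvd Nat.card_pos hpP)) with hm | hm
  · exact not_pairCond_of_transitive hM hP hfrob he2 hm hxG hpc
  · exact not_pairCond_of_family hM hP hfrob he2 hep hm hxG hpc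

end CfsgLib.ConjFunctor.CyclicPairs

namespace CfsgLib.ConjFunctor.CyclicPairs

universe v

/-- **Pairs of elements of order `p`.** -/
theorem isPSolvable_of_pairs {p : ℕ} [Fact p.Prime] {G : Type v} [Group G] [Finite G]
    (P : Sylow p G) (hP : IsCyclic (P : Subgroup G))
    (h : ∀ x y : G, orderOf x = p → orderOf y = p →
      IsPSolvable p (Subgroup.closure ({x, y} : Set G))) : IsPSolvable p G := by
  suffices key : ∀ (n : ℕ) (G : Type v) [Group G] [Finite G] (P : Sylow p G),
      IsCyclic (P : Subgroup G) → Nat.card G = n →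
      (∀ x y : G, orderOf x = p → orderOf y = p →
        IsPSolvable p (Subgroup.closure ({x, y} : Set G))) → IsPSolvable p G from
    key _ G P hP rfl h
  intro n
  induction n using Nat.strong_induction_on with
  | _ n ih =>
    intro G _ _ P hP hn h
    have hp := (Fact.out : p.Prime)
    by_cases hdvd : p ∣ Nat.card G
    swap
    · exact Constrained.isPSolvable_of_not_dvd hdvd
    by_cases hnorm : ∃ N : Subgroup G, N.Normal ∧ N ≠ ⊥ ∧ N ≠ ⊤
    · obtain ⟨N, hNn, hN1, hN2⟩ := hnorm
      have hNlt : Nat.card N < n := by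
        rw [← hn]
        exact lt_of_le_of_ne (Nat.le_of_dvd Nat.card_pos N.card_subgroup_dvd_card)
          fun e => hN2 (Subgroup.eq_top_of_card_eq N e)
      obtain ⟨Q⟩ : Nonempty (Sylow p N) := inferInstance
      have hNsol : IsPSolvable p N := by
        refine ih _ hNlt N Q
          (isCyclic_sylow_of_injective P hP N.subtype N.subtype_injective Q) rfl fun x y hx hy => ?_
        have hmap : (Subgroup.closure ({x, y} : Set N)).map N.subtype =
            Subgroup.closure ({(x : G), (y : G)} : Set G) := by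
          rw [MonoidHom.map_closure, Set.image_pair]; rfl
        have hG := h x y (by rw [Subgroup.orderOf_coe, hx]) (by rw [Subgroup.orderOf_coe, hy])
        rw [← hmap] at hG
        exact Constrained.IsPSolvable.of_mulEquiv hG
          (Subgroup.equivMapOfInjective _ N.subtype N.subtype_injective).symm
      haveI : Nontrivial N := (Subgroup.nontrivial_iff_ne_bot _).2 hN1
      rcases Constrained.IsPSolvable.core_ne_bot hNsol with hc | hc
      · exact Transfer.isPSolvable_of_cyclic_sylow_of_normal P hP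
          ((pCore p N).map N.subtype) (Constrained.isPGroup_pCore.map _)
          fun h' => hc ((Subgroup.map_eq_bot_iff_of_injective _ N.subtype_injective).1 h')
      · set K := (pPrimeCore p N).map N.subtype with hK
        have hKp : ¬ p ∣ Nat.card K := fun hd =>
          Constrained.pPrimeCore_not_dvd (hd.trans (Constrained.card_map_dvd_card _ _))
        have hK1 : K ≠ ⊥ := fun h' =>
          hc ((Subgroup.map_eq_bot_iff_of_injective _ N.subtype_injective).1 h')
        refine Constrained.isPSolvable_of_quotient K (Or.inr hKp) ?_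
        set π := QuotientGroup.mk' K with hπ
        have hsurj := QuotientGroup.mk'_surjective K
        have hlt : Nat.card (G ⧸ K) < n := by
          rw [← hn, Subgroup.card_eq_card_quotient_mul_card_subgroup K]
          exact lt_mul_of_one_lt_right Nat.card_pos (K.one_lt_card_iff_ne_bot.mpr hK1)
        have hlift : ∀ z : G ⧸ K, orderOf z = p → ∃ w : G, π w = z ∧ orderOf w = p := by
          intro z hz
          obtain ⟨g, rfl⟩ := hsurj z
          obtain ⟨u, hu⟩ := Blocks.exists_isPPart (G := G) hp g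
          obtain ⟨s, hs, hcomm, ⟨k, hk⟩, hsreg⟩ := hu
          have hs1 : π s = 1 := by
            have h1 : orderOf (π s) ∣ orderOf s := orderOf_map_dvd _ _
            have h2 : orderOf (π s) ∣ p ^ (k + 1) := by
              rw [orderOf_dvd_iff_pow_eq_one]
              have e1 : π s = (π u)⁻¹ * π g := by rw [← hs, map_mul, inv_mul_cancel_left]
              have hc' : Commute (π u)⁻¹ (π g) := by
                rw [← hs, map_mul]
                exact ((Commute.refl (π u)).mul_right (hcomm.map π)).inv_left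
              rw [e1, hc'.mul_pow, inv_pow, ← map_pow, orderOf_dvd_iff_pow_eq_one.1
                (show orderOf u ∣ p ^ (k + 1) from hk ▸ pow_dvd_pow p k.le_succ), map_one, inv_one,
                one_mul, orderOf_dvd_iff_pow_eq_one.1
                (show orderOf (π g) ∣ p ^ (k + 1) by rw [hz]; exact dvd_pow_self p k.succ_ne_zero)]
            exact orderOf_eq_one_iff.1 (Nat.eq_one_of_dvd_coprimes
              (((hp.coprime_iff_not_dvd.2 hsreg).symm).pow_right _) h1 h2)
          have hug : π u = π g := by rw [← hs, map_mul, hs1, mul_one]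
          have hupos : u ^ p = 1 := by
            have hmem : u ^ p ∈ K := by
              rw [← QuotientGroup.eq_one_iff]
              show π (u ^ p) = 1
              rw [map_pow, hug, orderOf_dvd_iff_pow_eq_one.1 hz.dvd]
            refine orderOf_eq_one_iff.1 (Nat.eq_one_of_dvd_coprimes
              ((hp.coprime_iff_not_dvd.2 hKp).pow_left k)
              ((orderOf_pow_dvd p).trans hk.dvd) ?_)
            rw [← Subgroup.orderOf_mk _ hmem]
            exact orderOf_dvd_natCard _
          refine ⟨u, hug, orderOf_eq_prime hupos ?_⟩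
          intro h1
          rw [h1, map_one] at hug
          rw [← hug, orderOf_one] at hz
          exact hp.ne_one hz.symm
        refine ih _ hlt (G ⧸ K) (P.mapSurjective hsurj)
          (isCyclic_sylow_of_surjective P hP π hsurj _) rfl fun x y hx hy => ?_
        obtain ⟨a, rfl, ha⟩ := hlift x hx
        obtain ⟨b, rfl, hb⟩ := hlift y hy
        have hmap : (Subgroup.closure ({a, b} : Set G)).map π =
            Subgroup.closure ({π a, π b} : Set (G ⧸ K)) := by
          rw [MonoidHom.map_closure, Set.image_pair]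
        rw [← hmap]
        exact Constrained.IsPSolvable.of_surjective (h a b ha hb) _
          (π.subgroupMap_surjective _)
    · push Not at hnorm
      haveI : Nontrivial G := by
        rw [← Finite.one_lt_card_iff_nontrivial]
        exact lt_of_lt_of_le hp.one_lt (Nat.le_of_dvd Nat.card_pos hdvd)
      haveI : IsSimpleGroup G :=
        { eq_bot_or_eq_top_of_normal := fun N hN => or_iff_not_imp_left.2 (hnorm N hN) }
      by_cases hab : IsMulCommutative G
      · haveI : Group.IsSolvable G :=
          Group.isSolvable_of_comm fun a b => hab.is_comm.comm a b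
        exact Constrained.isPSolvable_of_isSolvable
      · haveI := Fintype.ofFinite G
        exact (not_pairs_of_isSimpleGroup hP hdvd hab h).elim

end CfsgLib.ConjFunctor.CyclicPairs
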